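import Groth.Agent.SiteBase.KFlat.Bounded

/-! # Acyclic K-flat complexes: universal exactness and flat cycles -/

universe u

open CategoryTheory Limits HomologicalComplex CochainComplex

namespace Groth.Agent.SiteBase.KFlat

variable {C : Type u} [SmallCategory C] {J : GrothendieckTopology C} {O : Sheaf J CommRingCat.{u}}

/-- `F` in degree zero -/
noncomputable abbrev sng (F : ModSite.Mod O) : Cx O :=
  (HomologicalComplex.single _ (ComplexShape.up ℤ) 0).obj F

/-- `Tot(K ⊗ F[0]) ≅ K ⊗ F` -/
noncomputable def totSingleIso (K : Cx O) (F : ModSite.Mod O) :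
    (((ModSite.tensorBi O).flip.obj F).mapHomologicalComplex (ComplexShape.up ℤ)).obj K ≅
      tot K (sng F) :=
  HomologicalComplex.Hom.isoOfComponents
    (fun n => ((ModSite.tensorBi O).obj (K.X n)).mapIso
        (singleObjXSelf (ComplexShape.up ℤ) 0 F).symm ≪≫
      @asIso _ _ _ _ _ (isIso_ι_of_isZero (F := K) (K := sng F) 0
        (fun q hq => isZero_single_obj_X _ _ _ _ hq) n n (add_zero n)))
    (fun i j hij => by
      obtain rfl : i + 1 = j := hij
      refine Eq.trans (Category.assoc _ _ _) ?_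
      refine (congrArg (((ModSite.tensorBi O).obj (K.X i)).map
        (singleObjXSelf (ComplexShape.up ℤ) 0 F).inv ≫ ·)
        (ι_d_of_isZero (F := K) (K := sng F) 0 (fun q hq => isZero_single_obj_X _ _ _ _ hq)
          i (i + 1) i (i + 1) rfl (add_zero i) (add_zero _))).trans ?_
      refine (Category.assoc _ _ _).symm.trans ((congrArg (· ≫ _)
        (((ModSite.tensorBi O).map (K.d i (i + 1))).naturality
          (singleObjXSelf (ComplexShape.up ℤ) 0 F).inv)).trans (Category.assoc _ _ _)))

/-- An acyclic K-flat complex stays acyclic after tensoring with any module. -/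
theorem acyclic_tensor_module {K : Cx O} (hK : ModSite.IsKFlat K) (hac : K.Acyclic) (F : ModSite.Mod O) :
    ((((ModSite.tensorBi O).flip.obj F).mapHomologicalComplex (ComplexShape.up ℤ)).obj K).Acyclic :=
  acyclic_of_iso ((totBraidIso (sng F) K) ≪≫ (totSingleIso K F).symm)
    (acyclic_tot_of_isKFlat_acyclic hK hac (sng F))

set_option maxHeartbeats 4000000 in
/-- Cycles of an acyclic K-flat complex with flat terms are flat. -/
theorem isFlat_cycles {K : Cx O} (hK : ModSite.IsKFlat K) (hac : K.Acyclic)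
    (hfl : ∀ i, ModSite.IsFlat (K.X i)) (n : ℤ) : ModSite.IsFlat (K.cycles n) := by
  have hm : ∀ F : ModSite.Mod O, Mono (((ModSite.tensorBi O).flip.obj F).map (K.iCycles n)) := by
    intro F
    let T := (ModSite.tensorBi O).flip.obj F
    haveI : Epi (K.toCycles (n - 1) n) := by
      rw [epi_iff_surjective_up_to_refinements]
      intro X z
      obtain ⟨X', π, hπ, x, hx⟩ := ((K.exactAt_iff' (n - 1) n (n + 1) (by simp) (by simp)).1
        (hac n)).exact_up_to_refinements (z ≫ K.iCycles n) ((Category.assoc _ _ _).trans ((congrArg (z ≫ ·) (K.iCycles_d n (n + 1))).trans comp_zero))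
      exact ⟨X', π, hπ, x, by rw [← cancel_mono (K.iCycles n)]; simpa using! hx⟩
    haveI : Epi (T.map (K.toCycles (n - 1) n)) := inferInstance
    refine Preadditive.mono_of_cancel_zero _ fun {X} x hx => ?_
    obtain ⟨X₁, π₁, hπ₁, x₁, hx₁⟩ := surjective_up_to_refinements_of_epi (T.map (K.toCycles (n - 1) n)) x
    have hex := ((T.mapHomologicalComplex (ComplexShape.up ℤ)).obj K).exactAt_iff' (n - 2) (n - 1) n
      (by simp; omega) (by simp)
    have h₁ : x₁ ≫ T.map (K.d (n - 1) n) = 0 := by
      rw [← K.toCycles_i, T.map_comp, ← reassoc_of% hx₁, hx, comp_zero]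
    obtain ⟨X₂, π₂, hπ₂, x₂, hx₂⟩ :=
      (hex.1 (acyclic_tensor_module hK hac F (n - 1))).exact_up_to_refinements x₁ h₁
    replace hx₂ : π₂ ≫ x₁ = x₂ ≫ T.map (K.d (n - 2) (n - 1)) := hx₂
    have h0 : T.map (K.d (n - 2) (n - 1)) ≫ T.map (K.toCycles (n - 1) n) = 0 := by
      rw [← T.map_comp, d_toCycles, T.map_zero]
    rw [← cancel_epi π₁, ← cancel_epi π₂, hx₁, comp_zero, comp_zero, reassoc_of% hx₂]
    exact (congrArg (x₂ ≫ ·) h0).trans comp_zero
  refine isFlat_iff.2 ⟨fun {A B} f hf => ?_⟩
  haveI := hm A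
  haveI : Mono (((ModSite.tensorBi O).obj A).map (K.iCycles n)) := by
    rw [← NatIso.naturality_2 (braidIso A) (K.iCycles n)]
    infer_instance
  haveI : Mono (((ModSite.tensorBi O).map f).app (K.X n)) := mono_tensor_map_of_isFlat (hfl n) f
  haveI : Mono (((ModSite.tensorBi O).map f).app (K.cycles n) ≫
      ((ModSite.tensorBi O).obj B).map (K.iCycles n)) := by
    rw [← ((ModSite.tensorBi O).map f).naturality (K.iCycles n)]
    infer_instance
  exact mono_of_mono (((ModSite.tensorBi O).map f).app (K.cycles n))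
    (((ModSite.tensorBi O).obj B).map (K.iCycles n))

end Groth.Agent.SiteBase.KFlat
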