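import Groth.Agent.SiteBase.KFlat.Basic
import Mathlib.CategoryTheory.Functor.OfSequence
import Mathlib.CategoryTheory.Limits.Connected
import Mathlib.CategoryTheory.Filtered.Connected
import Mathlib.Algebra.Homology.Refinements
import Mathlib.Algebra.Homology.QuasiIso
import Mathlib.Algebra.Homology.HomologicalComplexBiprod

/-! # K-flat resolutions and factorisations of complexes of sheaves of modules -/

universe u

open CategoryTheory Limits HomologicalComplex CochainComplex CochainComplex.HomComplex ZeroObject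

attribute [local instance] IsFiltered.isConnected

namespace Groth.Agent.SiteBase.KFlat

section Abelian

variable {A : Type*} [Category* A] [Abelian A] {I : Type*} [Category* I] [IsFiltered I]

/-- A morphism to an exact filtered colimit locally comes from the diagram. -/
lemma exists_refinements [HasColimitsOfShape I A] [HasExactColimitsOfShape I A]
    [HasColimitsOfShape (Discrete I) A] {Y : I ⥤ A} {co : Cocone Y} (hco : IsColimit co) {X : A}
    (x : X ⟶ co.pt) :
    ∃ (Z : I → A) (z : ∀ i, Z i ⟶ X) (y : ∀ i, Z i ⟶ Y.obj i),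
      Epi (Sigma.desc z) ∧ ∀ i, z i ≫ x = y i ≫ co.ι.app i := by
  let p : (Functor.const I).obj co.pt ⟶ cokernel co.ι := cokernel.π _
  let g : (Functor.const I).obj X ⟶ cokernel co.ι := (Functor.const I).map x ≫ p
  have hp : ∀ i, co.ι.app i ≫ p.app i = 0 := fun i => congr_app (cokernel.condition co.ι) i
  have hp0 : ∀ i, p.app i ≫ colimit.ι _ i = 0 := by
    intro i
    refine hco.hom_ext fun a => ?_
    have hw : ∀ {a b : I} (_ : a ⟶ b), p.app a ≫ colimit.ι _ a = p.app b ≫ colimit.ι _ b := by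
      intro a b h
      rw [← colimit.w _ h, ← Category.assoc, ← p.naturality h]
      simp
    rw [comp_zero, hw (IsFiltered.leftToMax i a), ← co.w (IsFiltered.rightToMax i a), Category.assoc,
      reassoc_of% hp (IsFiltered.max i a), zero_comp, comp_zero]
  let f : colimit (kernel g) ⟶ X := IsColimit.map (colimit.isColimit _) (constCocone I X) (kernel.ι g)
  have hf : ∀ i, colimit.ι (kernel g) i ≫ f = (kernel.ι g).app i := fun i =>
    (IsColimit.ι_map _ _ _ _).trans (Category.comp_id _)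
  have hfe : Epi f := (colim.exact_mapShortComplex
    ((ShortComplex.mk _ _ (kernel.condition g)).exact_of_f_is_kernel (kernelIsKernel g))
    (colimit.isColimit _) (isColimitConstCocone _ _) (colimit.isColimit (cokernel co.ι)) f 0
    (fun i => (hf i).trans (Category.comp_id _).symm)
    (fun i => by
      show 𝟙 X ≫ 0 = ((x ≫ p.app i) ≫ colimit.ι (cokernel co.ι) i)
      rw [Category.assoc, hp0, comp_zero, comp_zero])).epi_f rfl
  have hex : ∀ i, (ShortComplex.mk (co.ι.app i) (p.app i) (hp i)).Exact := fun i =>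
    ((ShortComplex.mk co.ι p (cokernel.condition _)).exact_of_g_is_cokernel
      (cokernelIsCokernel _)).map ((evaluation I A).obj i)
  have hk : ∀ i, ((kernel.ι g).app i ≫ x) ≫ p.app i = 0 := fun i => by
    rw [Category.assoc]; exact congr_app (kernel.condition g) i
  choose Z π hπ y hy using fun i => (hex i).exact_up_to_refinements _ (hk i)
  refine ⟨Z, fun i => π i ≫ (kernel.ι g).app i, y, ⟨fun u v h => ?_⟩, fun i => by
    rw [Category.assoc]; exact hy i⟩
  rw [← cancel_epi f]
  refine colimit.hom_ext fun i => ?_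
  rw [reassoc_of% hf i, reassoc_of% hf i]
  haveI := hπ i
  rw [← cancel_epi (π i)]
  simpa using congrArg (Sigma.ι Z i ≫ ·) h

end Abelian

variable {C : Type u} [SmallCategory C] {J : GrothendieckTopology C} {O : Sheaf J CommRingCat.{u}}

theorem isFlat_colimit' {I : Type*} [Category* I] [HasColimitsOfShape I (ModSite.Mod O)]
    [HasExactColimitsOfShape I (ModSite.Mod O)]
    [∀ G : ModSite.Mod O, PreservesColimitsOfShape I ((ModSite.tensorBi O).obj G)]
    (D : I ⥤ ModSite.Mod O) (hD : ∀ k, ModSite.IsFlat (D.obj k)) {c : Cocone D} (hc : IsColimit c) :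
    ModSite.IsFlat c.pt := by
  haveI : PreservesColimitsOfShape I (ModSite.tensorBi O).flip :=
    preservesColimitsOfShape_of_evaluation _ _ fun G =>
      inferInstanceAs (PreservesColimitsOfShape I ((ModSite.tensorBi O).obj G))
  let Φ := D ⋙ (ModSite.tensorBi O).flip
  haveI : PreservesFiniteLimits Φ.flip := by
    refine ⟨fun L _ _ => preservesLimitsOfShape_of_evaluation _ _ fun k => ?_⟩
    haveI := (hD k).1
    exact inferInstanceAs (PreservesLimitsOfShape L ((ModSite.tensorBi O).flip.obj (D.obj k)))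
  haveI : PreservesFiniteLimits (colim : (I ⥤ ModSite.Mod O) ⥤ ModSite.Mod O) :=
    HasExactColimitsOfShape.preservesFiniteLimits
  haveI : PreservesFiniteLimits (Φ.flip ⋙ colim) := comp_preservesFiniteLimits _ _
  haveI : (Φ.flip ⋙ colim).PreservesMonomorphisms :=
    preservesMonomorphisms_of_preservesLimitsOfShape _
  exact isFlat_of_natIso ((isColimitOfPreserves (ModSite.tensorBi O).flip hc).coconePointUniqueUpToIso
    (colimit.isColimit Φ) ≪≫ colimitIsoFlipCompColim Φ)

theorem isFlat_of_isZero {M : ModSite.Mod O} (h : IsZero M) : ModSite.IsFlat M :=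
  isFlat_iff.2 ⟨fun {A B} f _ => ⟨fun u v _ => (((ModSite.tensorBi O).obj A).map_isZero h).eq_of_tgt u v⟩⟩

theorem isFlat_of_splitting {S : ShortComplex (ModSite.Mod O)} (s : S.Splitting)
    (h₁ : ModSite.IsFlat S.X₁) (h₃ : ModSite.IsFlat S.X₃) : ModSite.IsFlat S.X₂ :=
  isFlat_middle s.shortExact h₁ h₃

/-- the chosen flat cover -/
noncomputable def cov (M : ModSite.Mod O) : ModSite.Mod O := (exists_flat_quotient M).choose

/-- the projection of the chosen flat cover -/
noncomputable def covπ (M : ModSite.Mod O) : cov M ⟶ M := (exists_flat_quotient M).choose_spec.choose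

theorem isFlat_cov (M : ModSite.Mod O) : ModSite.IsFlat (cov M) :=
  (exists_flat_quotient M).choose_spec.choose_spec.1

instance epi_covπ (M : ModSite.Mod O) : Epi (covπ M) :=
  (exists_flat_quotient M).choose_spec.choose_spec.2

/-- a complex with zero differential -/
noncomputable def zcx (Q : ℤ → ModSite.Mod O) : Cx O where
  X := Q
  d _ _ := 0

/-- the inclusion of the summand in degree `q` -/
noncomputable def zcxIncl (Q : ℤ → ModSite.Mod O) (q : ℤ) :
    (HomologicalComplex.single _ (ComplexShape.up ℤ) q).obj (Q q) ⟶ zcx Q :=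
  mkHomFromSingle (K := zcx Q) (𝟙 (Q q)) (fun k _ => show 𝟙 (Q q) ≫ (0 : Q q ⟶ Q k) = 0 from comp_zero)

lemma zcxIncl_f (Q : ℤ → ModSite.Mod O) (q : ℤ) :
    (zcxIncl Q q).f q = (singleObjXSelf (ComplexShape.up ℤ) q (Q q)).hom :=
  (mkHomFromSingle_f (K := zcx Q) (𝟙 (Q q)) _).trans (Category.comp_id _)

theorem isKFlat_zcx (Q : ℤ → ModSite.Mod O) (hQ : ∀ q, ModSite.IsFlat (Q q)) :
    ModSite.IsKFlat (zcx Q) := by
  let D : Discrete ℤ ⥤ Cx O :=
    Discrete.functor fun q => (HomologicalComplex.single _ (ComplexShape.up ℤ) q).obj (Q q)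
  let c : Cofan (fun q => (HomologicalComplex.single _ (ComplexShape.up ℤ) q).obj (Q q)) :=
    Cofan.mk (zcx Q) (zcxIncl Q)
  have hc : IsColimit c := Cofan.IsColimit.mk c
    (fun s =>
      { f := fun q => (singleObjXSelf (ComplexShape.up ℤ) q (Q q)).inv ≫ (s.inj q).f q
        comm' := fun i j _ => by
          show _ = (0 : Q i ⟶ Q j) ≫ _
          rw [Category.assoc, (s.inj i).comm i j, single_obj_d, zero_comp, comp_zero]
          exact zero_comp.symm })
    (fun s q => by
      apply HomologicalComplex.hom_ext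
      intro m
      by_cases hm : m = q
      · obtain rfl := hm
        show (zcxIncl Q m).f m ≫ (singleObjXSelf (ComplexShape.up ℤ) m (Q m)).inv ≫ (s.inj m).f m = _
        rw [zcxIncl_f, Iso.hom_inv_id_assoc]
      · exact (isZero_single_obj_X _ _ _ _ hm).eq_of_src _ _)
    (fun s m hm => by
      apply HomologicalComplex.hom_ext
      intro q
      show m.f q = (singleObjXSelf (ComplexShape.up ℤ) q (Q q)).inv ≫ (s.inj q).f q
      rw [← hm q]
      show _ = (singleObjXSelf (ComplexShape.up ℤ) q (Q q)).inv ≫ (zcxIncl Q q).f q ≫ m.f q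
      rw [zcxIncl_f]
      exact (Iso.inv_hom_id_assoc _ _).symm)
  have hD : ∀ q, ModSite.IsKFlat (D.obj q) := fun q =>
    isKFlat_of_isZero (K := (HomologicalComplex.single _ (ComplexShape.up ℤ) q.as).obj (Q q.as)) q.as
      (fun m hm => isZero_single_obj_X _ _ _ _ hm)
      (isFlat_of_iso (singleObjXSelf (ComplexShape.up ℤ) q.as (Q q.as)).symm (hQ q.as))
  exact isKFlat_colimit (I := Discrete ℤ) D hD (c := c) hc

theorem isFlat_cone {K L : Cx O} (φ : K ⟶ L) (hK : ∀ n, ModSite.IsFlat (K.X n))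
    (hL : ∀ n, ModSite.IsFlat (L.X n)) (n : ℤ) :
    ModSite.IsFlat ((CochainComplex.mappingCone φ).X n) :=
  isFlat_of_splitting (coneSeqSplitting φ n) (hL n) (hK (n + 1))

variable {K L : Cx O}

/-- pairs (cycle, primitive of its image) -/
noncomputable def killMap {N : Cx O} (c : N ⟶ L) (p : ℤ) :
    N.X p ⊞ L.X (p - 1) ⟶ N.X (p + 1) ⊞ L.X p :=
  biprod.desc (biprod.lift (N.d p (p + 1)) (c.f p)) (biprod.lift 0 (-L.d (p - 1) p))

/-- the cells killing `ker H(c)` -/
noncomputable def killCells {N : Cx O} (c : N ⟶ L) (p : ℤ) : ModSite.Mod O :=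
  cov (kernel (killMap c p))

/-- attaching map, degree `p` -/
noncomputable def killX {N : Cx O} (c : N ⟶ L) (p : ℤ) : killCells c p ⟶ N.X p :=
  covπ _ ≫ kernel.ι (killMap c p) ≫ biprod.fst

/-- primitive, degree `p` -/
noncomputable def killY {N : Cx O} (c : N ⟶ L) (p : ℤ) : killCells c p ⟶ L.X (p - 1) :=
  covπ _ ≫ kernel.ι (killMap c p) ≫ biprod.snd

lemma killMap_fst {N : Cx O} (c : N ⟶ L) (p : ℤ) :
    killMap c p ≫ biprod.fst = biprod.fst ≫ N.d p (p + 1) := by
  apply biprod.hom_ext' <;> simp [killMap]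

lemma killMap_snd {N : Cx O} (c : N ⟶ L) (p : ℤ) :
    killMap c p ≫ biprod.snd = biprod.fst ≫ c.f p - biprod.snd ≫ L.d (p - 1) p := by
  apply biprod.hom_ext' <;> simp [killMap]

lemma killX_d {N : Cx O} (c : N ⟶ L) (p : ℤ) : killX c p ≫ N.d p (p + 1) = 0 := by
  simp only [killX, Category.assoc]
  rw [← killMap_fst, kernel.condition_assoc, zero_comp, comp_zero]

lemma killY_d {N : Cx O} (c : N ⟶ L) (p : ℤ) :
    killY c p ≫ L.d (p - 1) p = killX c p ≫ c.f p := by
  rw [eq_comm, ← sub_eq_zero]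
  simp only [killX, killY, Category.assoc, ← Preadditive.comp_sub]
  rw [← killMap_snd, kernel.condition_assoc, zero_comp, comp_zero]

/-- the attaching map -/
noncomputable def killHom {N : Cx O} (c : N ⟶ L) : zcx (killCells c) ⟶ N where
  f := killX c
  comm' i j hij := by
    obtain rfl : i + 1 = j := hij
    show killX c i ≫ _ = (0 : killCells c i ⟶ killCells c (i + 1)) ≫ killX c (i + 1)
    rw [killX_d, zero_comp]

/-- next stage -/
noncomputable def stepObj {N : Cx O} (c : N ⟶ L) : Cx O := CochainComplex.mappingCone (killHom c)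

/-- next map -/
noncomputable def stepHom {N : Cx O} (c : N ⟶ L) : stepObj c ⟶ L :=
  mappingCone.desc (killHom c)
    (Cochain.mk fun p q hpq => killY c p ≫ (L.XIsoOfEq (by omega : p - 1 = q)).hom) c (by
    apply Cochain.ext₀
    intro p
    rw [δ_v (-1) 0 (by omega) _ p p (add_zero p) (p - 1) (p + 1) rfl rfl]
    simp [killHom, show (zcx (killCells c)).d p (p + 1) = 0 from rfl]
    exact killY_d c p)

/-- a stage of the construction: a complex over `L` -/
abbrev StageOver (L : Cx O) := Σ' N : Cx O, N ⟶ L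

/-- iterated killing -/
noncomputable def stage (s : StageOver L) : ℕ → StageOver L
  | 0 => s
  | j + 1 => ⟨stepObj (stage s j).2, stepHom (stage s j).2⟩

/-- transition maps -/
noncomputable def transition (s : StageOver L) (j : ℕ) : (stage s j).1 ⟶ (stage s (j + 1)).1 :=
  mappingCone.inr (killHom (stage s j).2)

lemma inr_stepHom {N : Cx O} (c : N ⟶ L) :
    mappingCone.inr (killHom c) ≫ stepHom c = c := by
  apply mappingCone.inr_desc

lemma transition_comp (s : StageOver L) (j : ℕ) :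
    transition s j ≫ (stage s (j + 1)).2 = (stage s j).2 :=
  inr_stepHom (stage s j).2

/-- Classes killed by the next stage. -/
lemma killed {N : Cx O} (c : N ⟶ L) {X : ModSite.Mod O} (p : ℤ) (x : X ⟶ N.X p)
    (hx : x ≫ N.d p (p + 1) = 0) (y : X ⟶ L.X (p - 1)) (h : x ≫ c.f p = y ≫ L.d (p - 1) p) :
    ∃ (X' : ModSite.Mod O) (π : X' ⟶ X) (_ : Epi π) (w : X' ⟶ (stepObj c).X (p - 1)),
      π ≫ x ≫ (mappingCone.inr (killHom c)).f p = w ≫ (stepObj c).d (p - 1) p := by
  let k : X ⟶ kernel (killMap c p) := kernel.lift _ (biprod.lift x y) (by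
    apply biprod.hom_ext <;> simp [killMap, biprod.desc_eq, hx, h])
  obtain ⟨X', π, hπ, q, hq⟩ := surjective_up_to_refinements_of_epi (covπ _) k
  refine ⟨X', π, hπ, q ≫ (mappingCone.inl (killHom c)).v p (p - 1) (by omega), ?_⟩
  have hqx : q ≫ killX c p = π ≫ x := by
    have := congrArg (· ≫ kernel.ι (killMap c p) ≫ biprod.fst) hq
    simpa [killX, k] using! this.symm
  rw [Category.assoc]
  erw [mappingCone.inl_v_d (killHom c) p (p - 1) (p + 1) (by omega) (by omega)]
  simp [zcx, killHom]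
  erw [sub_zero, reassoc_of% hqx]
  rfl

/-- The colimit of the construction. -/
theorem exists_colimit_stage (s : StageOver L) (hs : ∀ n, Epi (s.2.f n))
    (hsH : ∀ (n : ℤ) {X : ModSite.Mod O} (y : X ⟶ L.X n), y ≫ L.d n (n + 1) = 0 →
      ∃ (X' : ModSite.Mod O) (π : X' ⟶ X) (_ : Epi π) (x : X' ⟶ s.1.X n),
        x ≫ s.1.d n (n + 1) = 0 ∧ π ≫ y = x ≫ s.2.f n)
    (hK : ModSite.IsKFlat s.1) :
    ∃ (N : Cx O) (i : s.1 ⟶ N) (c : N ⟶ L), i ≫ c = s.2 ∧ ModSite.IsKFlat N ∧ QuasiIso c ∧
      (∀ n, Epi (c.f n)) ∧ ((∀ n, ModSite.IsFlat (s.1.X n)) → ∀ n, ModSite.IsFlat (N.X n)) := by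
  let D : ℕ ⥤ Cx O := Functor.ofSequence (transition s)
  let cL : Cocone D :=
    { pt := L
      ι := NatTrans.ofSequence (fun j => (stage s j).2) (fun j => by
        simp only [D, Functor.ofSequence_map_homOfLE_succ, Functor.const_obj_map]
        exact (transition_comp s j).trans (Category.comp_id _).symm) }
  let c : colimit D ⟶ L := colimit.desc D cL
  have hc : ∀ j, colimit.ι D j ≫ c = (stage s j).2 := fun j => colimit.ι_desc cL j
  have hkf : ∀ j, ModSite.IsKFlat (D.obj j) := by
    intro j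
    induction j with
    | zero => exact hK
    | succ j ih => exact isKFlat_cone _ (isKFlat_zcx _ fun q => isFlat_cov _) ih
  have hfl : (∀ n, ModSite.IsFlat (s.1.X n)) → ∀ j n, ModSite.IsFlat ((D.obj j).X n) := by
    intro h0 j
    induction j with
    | zero => exact h0
    | succ j ih => exact fun n => isFlat_cone _ (fun q => isFlat_cov _) ih n
  haveI : ∀ n, Epi (c.f n) := fun n => by
    haveI := hs n
    haveI : Epi ((colimit.ι D 0).f n ≫ c.f n) := by
      rw [← HomologicalComplex.comp_f, hc 0]; exact hs n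
    exact epi_of_epi ((colimit.ι D 0).f n) _
  refine ⟨colimit D, colimit.ι D 0, c, hc 0, isKFlat_colimit D hkf (colimit.isColimit D),
    ⟨fun n => ?_⟩, this, fun h0 n =>
      isFlat_colimit' (D ⋙ HomologicalComplex.eval _ _ n) (fun j => hfl h0 j n)
        (isColimitOfPreserves (HomologicalComplex.eval _ _ n) (colimit.isColimit D))⟩
  rw [quasiIsoAt_iff_isIso_homologyMap]
  have hm : Mono (homologyMap c n) := by
    rw [mono_homologyMap_iff_up_to_refinements c (n - 1) n (n + 1) (by simp) (by simp)]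
    intro X x hx y hxy
    -- cycles of the colimit are locally cycles of some stage
    let α : D ⋙ HomologicalComplex.eval _ _ n ⟶ D ⋙ HomologicalComplex.eval _ _ (n + 1) :=
      { app := fun j => (D.obj j).d n (n + 1)
        naturality := fun i j f => (D.map f).comm _ _ }
    let hcn := isColimitOfPreserves (HomologicalComplex.eval _ _ n) (colimit.isColimit D)
    let hcn' := isColimitOfPreserves (HomologicalComplex.eval _ _ (n + 1)) (colimit.isColimit D)
    let ζ : colimit (kernel α) ⟶ (colimit D).X n :=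
      IsColimit.map (colimit.isColimit _)
        ((HomologicalComplex.eval _ _ n).mapCocone (colimit.cocone D)) (kernel.ι α)
    have hζ : ∀ j, colimit.ι (kernel α) j ≫ ζ = (kernel.ι α).app j ≫ (colimit.ι D j).f n := fun j =>
      IsColimit.ι_map _ _ _ _
    have hex := colim.exact_mapShortComplex
      ((ShortComplex.mk _ _ (kernel.condition α)).exact_of_f_is_kernel (kernelIsKernel α))
      (colimit.isColimit _) hcn hcn' ζ ((colimit D).d n (n + 1)) hζ
      (fun j => (colimit.ι D j).comm _ _)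
    obtain ⟨X₁, π₁, hπ₁, x₁, hx₁⟩ := hex.exact_up_to_refinements x hx
    replace hx₁ : π₁ ≫ x = x₁ ≫ ζ := hx₁
    obtain ⟨Z, z, y', hze, hzy⟩ := exists_refinements (colimit.isColimit (kernel α)) x₁
    replace hzy : ∀ j, z j ≫ π₁ ≫ x = y' j ≫ (kernel.ι α).app j ≫ (colimit.ι D j).f n := fun j => by
      rw [hx₁]
      erw [reassoc_of% hzy j]
      exact congrArg (y' j ≫ ·) (hζ j)
    -- they are killed at the next stage
    have key : ∀ j, ∃ (X' : ModSite.Mod O) (π : X' ⟶ Z j) (_ : Epi π) (w : X' ⟶ (colimit D).X (n - 1)),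
        π ≫ z j ≫ π₁ ≫ x = w ≫ (colimit D).d (n - 1) n := by
      intro j
      have hk : (y' j ≫ (kernel.ι α).app j) ≫ (D.obj j).d n (n + 1) = 0 := by
        rw [Category.assoc]
        exact (congrArg (y' j ≫ ·) (congr_app (kernel.condition α) j)).trans comp_zero
      obtain ⟨X', π, hπ, w, hw⟩ := killed (stage s j).2 n (y' j ≫ (kernel.ι α).app j) hk
        (z j ≫ π₁ ≫ y) (by
          rw [← hc j, HomologicalComplex.comp_f, Category.assoc]
          erw [← reassoc_of% hzy j]
          rw [hxy]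
          simp)
      refine ⟨X', π, hπ, w ≫ (colimit.ι D (j + 1)).f (n - 1), ?_⟩
      have hD : (colimit.ι D j).f n = (transition s j).f n ≫ (colimit.ι D (j + 1)).f n := by
        rw [← HomologicalComplex.comp_f, ← colimit.w D (homOfLE (Nat.le_add_right j 1))]
        simp only [D, Functor.ofSequence_map_homOfLE_succ]
        rfl
      rw [hzy j, hD, Category.assoc w]
      erw [(colimit.ι D (j + 1)).comm]
      have := congrArg (· ≫ (colimit.ι D (j + 1)).f n) hw
      simpa [transition] using! this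
    choose X' π hπ w hw using key
    refine ⟨∐ X', Sigma.desc (fun j => π j ≫ z j) ≫ π₁, ?_, Sigma.desc w, ?_⟩
    · have : Epi (Sigma.desc fun j => π j ≫ z j) := ⟨fun u v h => by
        rw [← cancel_epi (Sigma.desc z)]
        refine Sigma.hom_ext _ _ fun j => ?_
        haveI := hπ j
        rw [← cancel_epi (π j)]
        simpa using congrArg (Sigma.ι X' j ≫ ·) h⟩
      exact epi_comp _ _
    · refine Sigma.hom_ext _ _ fun j => ?_
      simpa using hw j
  have he : Epi (homologyMap c n) := by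
    rw [epi_homologyMap_iff_up_to_refinements c (n - 1) n (n + 1) (by simp) (by simp)]
    intro X y hy
    obtain ⟨X', π, hπ, x, hx, hxy⟩ := hsH n y hy
    refine ⟨X', π, hπ, x ≫ (colimit.ι D 0).f n, ?_, 0, ?_⟩
    · rw [Category.assoc]
      erw [(colimit.ι D 0).comm, reassoc_of% hx, zero_comp]
    · rw [zero_comp, add_zero, hxy, Category.assoc]
      erw [← HomologicalComplex.comp_f, hc 0]
      rfl
  exact isIso_of_mono_of_epi _

/-- cycles in degree `p` -/
noncomputable def zCells (L : Cx O) (p : ℤ) : ModSite.Mod O := cov (kernel (L.d (p - 1) p))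

/-- the map adding cells for all cycles -/
noncomputable def zHom (a : K ⟶ L) :
    CochainComplex.mappingCone (0 : zcx (zCells L) ⟶ K) ⟶ L :=
  mappingCone.desc (0 : zcx (zCells L) ⟶ K)
    (Cochain.mk fun p q hpq => covπ _ ≫ kernel.ι (L.d (p - 1) p) ≫
      (L.XIsoOfEq (by omega : p - 1 = q)).hom) a (by
    apply Cochain.ext₀
    intro p
    rw [δ_v (-1) 0 (by omega) _ p p (add_zero p) (p - 1) (p + 1) rfl rfl]
    simp [show (zcx (zCells L)).d p (p + 1) = 0 from rfl])

/-- cells covering each degree -/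
noncomputable def eCells (L : Cx O) (p : ℤ) : ModSite.Mod O := cov (L.X (p - 1))

/-- boundaries of the disks -/
noncomputable def eHom (L : Cx O) : zcx (eCells L) ⟶ L where
  f p := covπ (L.X (p - 1)) ≫ L.d (p - 1) p
  comm' i j _ := by
    rw [Category.assoc, L.d_comp_d, comp_zero]
    show (0 : eCells L i ⟶ L.X j) = (0 : eCells L i ⟶ eCells L j) ≫ _
    rw [zero_comp]

/-- disks mapping onto `L` -/
noncomputable def diskHom (L : Cx O) : CochainComplex.mappingCone (𝟙 (zcx (eCells L))) ⟶ L :=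
  mappingCone.desc (𝟙 (zcx (eCells L)))
    (Cochain.mk fun p q hpq => covπ (L.X (p - 1)) ≫ (L.XIsoOfEq (by omega : p - 1 = q)).hom)
    (eHom L) (by
    apply Cochain.ext₀
    intro p
    rw [δ_v (-1) 0 (by omega) _ p p (add_zero p) (p - 1) (p + 1) rfl rfl]
    simp [eHom, show (zcx (eCells L)).d p (p + 1) = 0 from rfl])

instance epi_diskHom_f (L : Cx O) (n : ℤ) : Epi ((diskHom L).f n) := by
  have h : (mappingCone.inl (𝟙 (zcx (eCells L)))).v (n + 1) n (by omega) ≫ (diskHom L).f n =
      covπ (L.X (n + 1 - 1)) ≫ (L.XIsoOfEq (by omega : n + 1 - 1 = n)).hom :=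
    mappingCone.inl_v_desc_f _ _ _ _ (n + 1) n (by omega)
  have h1 : Epi (covπ (L.X (n + 1 - 1))) := epi_covπ _
  have h2 : Epi (L.XIsoOfEq (by omega : n + 1 - 1 = n)).hom :=
    ⟨fun u v huv => (cancel_epi (L.XIsoOfEq (by omega : n + 1 - 1 = n)).hom).1 huv⟩
  have h3 : Epi ((mappingCone.inl (𝟙 (zcx (eCells L)))).v (n + 1) n (by omega) ≫ (diskHom L).f n) := by
    rw [h]; exact @epi_comp _ _ _ _ _ _ h1 _ h2
  exact epi_of_epi ((mappingCone.inl (𝟙 (zcx (eCells L)))).v (n + 1) n _) _

/-- K-flat factorisation: every map out of a K-flat complex is a map into a K-flat complex followed by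
a degreewise surjective quasi-isomorphism. -/
theorem exists_factorisation (a : K ⟶ L) (hK : ModSite.IsKFlat K) :
    ∃ (N : Cx O) (b : K ⟶ N) (c : N ⟶ L), b ≫ c = a ∧ ModSite.IsKFlat N ∧ QuasiIso c ∧
      (∀ n, Epi (c.f n)) ∧ ((∀ n, ModSite.IsFlat (K.X n)) → ∀ n, ModSite.IsFlat (N.X n)) := by
  let N₁ := CochainComplex.mappingCone (0 : zcx (zCells L) ⟶ K)
  let E := CochainComplex.mappingCone (𝟙 (zcx (eCells L)))
  let c₀ : N₁ ⊞ E ⟶ L := biprod.desc (zHom a) (diskHom L)
  let sp : (ShortComplex.mk (biprod.inl : N₁ ⟶ N₁ ⊞ E) biprod.snd (by simp)).Splitting :=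
    ShortComplex.Splitting.ofHasBinaryBiproduct _ _
  have hN₁ : ModSite.IsKFlat N₁ := isKFlat_cone _ (isKFlat_zcx _ fun _ => isFlat_cov _) hK
  have hE : ModSite.IsKFlat E :=
    isKFlat_cone _ (isKFlat_zcx _ fun _ => isFlat_cov _) (isKFlat_zcx _ fun _ => isFlat_cov _)
  have h0 : ModSite.IsKFlat (N₁ ⊞ E) :=
    isKFlat₂ (S := ShortComplex.mk (biprod.inl : N₁ ⟶ N₁ ⊞ E) biprod.snd (by simp)) sp.shortExact
      (mono_of_splitting (S := ShortComplex.mk (biprod.inl : N₁ ⟶ N₁ ⊞ E) biprod.snd (by simp))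
        fun q => sp.map (HomologicalComplex.eval _ _ q)) hN₁ hE
  have hepi : ∀ n, Epi (c₀.f n) := fun n => by
    haveI : Epi ((biprod.inr : E ⟶ N₁ ⊞ E).f n ≫ c₀.f n) := by
      rw [← HomologicalComplex.comp_f, biprod.inr_desc]; infer_instance
    exact epi_of_epi ((biprod.inr : E ⟶ N₁ ⊞ E).f n) _
  have hH : ∀ (n : ℤ) {X : ModSite.Mod O} (y : X ⟶ L.X n), y ≫ L.d n (n + 1) = 0 →
      ∃ (X' : ModSite.Mod O) (π : X' ⟶ X) (_ : Epi π) (x : X' ⟶ (N₁ ⊞ E).X n),
        x ≫ (N₁ ⊞ E).d n (n + 1) = 0 ∧ π ≫ y = x ≫ c₀.f n := by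
    intro n X y hy
    let e := (L.XIsoOfEq (by omega : n + 1 - 1 = n))
    let k : X ⟶ kernel (L.d (n + 1 - 1) (n + 1)) := kernel.lift _ (y ≫ e.inv) (by simp [e, hy])
    obtain ⟨X', π, hπ, q, hq⟩ := surjective_up_to_refinements_of_epi (covπ _) k
    refine ⟨X', π, hπ, q ≫ (mappingCone.inl (0 : zcx (zCells L) ⟶ K)).v (n + 1) n (by omega) ≫
      (biprod.inl : N₁ ⟶ N₁ ⊞ E).f n, ?_, ?_⟩
    · rw [Category.assoc, Category.assoc, (biprod.inl : N₁ ⟶ N₁ ⊞ E).comm]
      erw [mappingCone.inl_v_d_assoc (0 : zcx (zCells L) ⟶ K) (n + 1) n (n + 2) (by omega) (by omega)]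
      simp [show (zcx (zCells L)).d (n + 1) (n + 2) = 0 from rfl]
      exact comp_zero
    · rw [Category.assoc, Category.assoc, ← HomologicalComplex.comp_f, biprod.inl_desc]
      erw [mappingCone.inl_v_desc_f]
      have := congrArg (· ≫ kernel.ι _ ≫ e.hom) hq
      simpa [k, e] using! this
  obtain ⟨N, i, c, hic, hN, hq, he, hfl⟩ := exists_colimit_stage ⟨N₁ ⊞ E, c₀⟩ hepi hH h0
  refine ⟨N, mappingCone.inr (0 : zcx (zCells L) ⟶ K) ≫ biprod.inl ≫ i, c, ?_, hN, hq, he, fun hf => ?_⟩
  · rw [Category.assoc, Category.assoc, hic]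
    show _ ≫ biprod.inl ≫ biprod.desc (zHom a) (diskHom L) = a
    rw [biprod.inl_desc]
    apply mappingCone.inr_desc
  · refine hfl fun n => isFlat_of_splitting (sp.map (HomologicalComplex.eval _ _ n)) ?_ ?_
    · exact isFlat_cone (0 : zcx (zCells L) ⟶ K) (fun _ => isFlat_cov _) hf n
    · exact isFlat_cone (𝟙 (zcx (eCells L))) (fun _ => isFlat_cov _) (fun _ => isFlat_cov _) n

theorem isKFlat_zero {K : Cx O} (h : ∀ n, IsZero (K.X n)) : ModSite.IsKFlat K :=
  isKFlat_of_isZero 0 (fun q _ => h q) (isFlat_of_isZero (h 0))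

/-- K-flat resolutions exist. -/
theorem exists_resolution (G : Cx O) :
    ∃ (N : Cx O) (q : N ⟶ G), ModSite.IsKFlat N ∧ (∀ n, ModSite.IsFlat (N.X n)) ∧ QuasiIso q ∧
      ∀ n, Epi (q.f n) := by
  have h0 : ∀ n, IsZero (((HomologicalComplex.single _ (ComplexShape.up ℤ) 0).obj
      (0 : ModSite.Mod O)).X n) := fun n =>
    (HomologicalComplex.eval _ _ n).map_isZero
      ((HomologicalComplex.single _ (ComplexShape.up ℤ) 0).map_isZero (isZero_zero _))
  obtain ⟨N, _, c, _, hN, hq, he, hfl⟩ := exists_factorisation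
    (0 : (HomologicalComplex.single _ (ComplexShape.up ℤ) 0).obj (0 : ModSite.Mod O) ⟶ G)
    (isKFlat_zero h0)
  exact ⟨N, c, hN, hfl fun n => isFlat_of_isZero (h0 n), hq, he⟩

end Groth.Agent.SiteBase.KFlat
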