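import Groth.Agent.SiteBase.KFlat.Resolution
import Mathlib.Algebra.Homology.HomologySequenceLemmas
import Mathlib.Algebra.Homology.BifunctorFlip
import Mathlib.Algebra.Homology.TotalComplexSymmetry

/-! # Quasi-isomorphisms and tensor products of complexes of sheaves of modules -/

universe u

open CategoryTheory Limits HomologicalComplex CochainComplex MonoidalCategory

namespace Groth.Agent.SiteBase.KFlat

section General

variable {A : Type*} [Category* A] [Abelian A] {ι : Type*} {c : ComplexShape ι}
  {S : ShortComplex (HomologicalComplex A c)}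

lemma quasiIso_f_of_acyclic (hc : ∀ j, ∃ i, c.Rel i j) (hS : S.ShortExact) (h : S.X₃.Acyclic) :
    QuasiIso S.f := ⟨fun j => by
  rw [quasiIsoAt_iff_isIso_homologyMap]
  obtain ⟨i, hij⟩ := hc j
  haveI : Mono (homologyMap S.f j) :=
    (hS.homology_exact₁ i j hij).mono_g ((acyclic_iff_isZero.1 h i).eq_of_src _ _)
  haveI : Epi (homologyMap S.f j) :=
    (hS.homology_exact₂ j).epi_f ((acyclic_iff_isZero.1 h j).eq_of_tgt _ _)
  exact isIso_of_mono_of_epi _⟩

lemma quasiIso_g_of_acyclic (hc : ∀ i, ∃ j, c.Rel i j) (hS : S.ShortExact) (h : S.X₁.Acyclic) :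
    QuasiIso S.g := ⟨fun i => by
  rw [quasiIsoAt_iff_isIso_homologyMap]
  obtain ⟨j, hij⟩ := hc i
  haveI : Epi (homologyMap S.g i) :=
    (hS.homology_exact₃ i j hij).epi_f ((acyclic_iff_isZero.1 h j).eq_of_tgt _ _)
  haveI : Mono (homologyMap S.g i) :=
    (hS.homology_exact₂ i).mono_g ((acyclic_iff_isZero.1 h i).eq_of_src _ _)
  exact isIso_of_mono_of_epi _⟩

lemma acyclic_of_quasiIso {K L : HomologicalComplex A c} (φ : K ⟶ L) [QuasiIso φ] (h : L.Acyclic) :
    K.Acyclic :=
  acyclic_iff_isZero.2 fun i => (acyclic_iff_isZero.1 h i).of_iso (asIso (homologyMap φ i))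

lemma acyclic_of_quasiIso' {K L : HomologicalComplex A c} (φ : K ⟶ L) [QuasiIso φ] (h : K.Acyclic) :
    L.Acyclic :=
  acyclic_iff_isZero.2 fun i => (acyclic_iff_isZero.1 h i).of_iso (asIso (homologyMap φ i)).symm

end General

variable {C : Type u} [SmallCategory C] {J : GrothendieckTopology C} {O : Sheaf J CommRingCat.{u}}

theorem acyclic_cone_id (F : Cx O) : (CochainComplex.mappingCone (𝟙 F)).Acyclic :=
  acyclic_iff_isZero.2 fun i =>
    (IsZero.iff_id_eq_zero _).2 (((CochainComplex.mappingCone.homotopyToZeroOfId F).homologyMap_eq i).trans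
      (homologyMap_zero _ _ _) ▸ (homologyMap_id _ _).symm)

/-- `F → F'` as a degreewise split mono followed by a projection with contractible kernel. -/
noncomputable abbrev facI {F F' : Cx O} (φ : F ⟶ F') : F ⟶ CochainComplex.mappingCone (𝟙 F) ⊞ F' :=
  biprod.lift (mappingCone.inr (𝟙 F)) φ

/-- `facI` is degreewise split -/
noncomputable def facSplitMono {F F' : Cx O} (φ : F ⟶ F') (p : ℤ) : SplitMono ((facI φ).f p) where
  retraction := (biprod.fst : CochainComplex.mappingCone (𝟙 F) ⊞ F' ⟶ _).f p ≫
    (mappingCone.snd (𝟙 F)).v p p (add_zero p)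
  id := by
    rw [← Category.assoc, ← HomologicalComplex.comp_f, biprod.lift_fst, mappingCone.inr_f_snd_v]

/-- the projection sequence of the factorisation -/
noncomputable abbrev facSeq (F F' : Cx O) : ShortComplex (Cx O) :=
  ShortComplex.mk (biprod.inl : CochainComplex.mappingCone (𝟙 F) ⟶ _ ⊞ F') biprod.snd (by simp)

/-- its splitting -/
noncomputable abbrev facSeqSplitting (F F' : Cx O) : (facSeq F F').Splitting :=
  ShortComplex.Splitting.ofHasBinaryBiproduct _ _

/-- the injection sequence of the factorisation -/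
noncomputable abbrev facCoker {F F' : Cx O} (φ : F ⟶ F') : ShortComplex (Cx O) :=
  ShortComplex.mk (facI φ) (cokernel.π (facI φ)) (cokernel.condition (facI φ))

theorem facCoker_shortExact {F F' : Cx O} (φ : F ⟶ F') : (facCoker φ).ShortExact :=
  haveI : Mono (facI φ) := HomologicalComplex.mono_of_mono_f _ fun p => (facSplitMono φ p).mono
  { exact := ShortComplex.exact_cokernel (facI φ) }

lemma facI_snd {F F' : Cx O} (φ : F ⟶ F') : facI φ ≫ (facSeq F F').g = φ := biprod.lift_snd _ _

theorem acyclic_facCoker {F F' : Cx O} (φ : F ⟶ F') [QuasiIso φ] : (facCoker φ).X₃.Acyclic := by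
  haveI : QuasiIso (facSeq F F').g :=
    quasiIso_g_of_acyclic upRel_next (facSeqSplitting F F').shortExact (acyclic_cone_id F)
  haveI : QuasiIso (facI φ ≫ (facSeq F F').g) := by rw [facI_snd]; infer_instance
  exact (facCoker_shortExact φ).acyclic_X₃ (quasiIso_of_comp_right (facI φ) (facSeq F F').g)

/-- `Tot(- ⊗ K)` preserves quasi-isomorphisms when `K` is K-flat. -/
theorem quasiIso_tot_flip {K : Cx O} (hK : ModSite.IsKFlat K) {F F' : Cx O} (φ : F ⟶ F') [QuasiIso φ] :
    QuasiIso (((ModSite.tensorCx O).flip.obj K).map φ) := by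
  haveI : QuasiIso (((ModSite.tensorCx O).flip.obj K).map (facI φ)) :=
    quasiIso_f_of_acyclic (S := (facCoker φ).map ((ModSite.tensorCx O).flip.obj K)) upRel_prev
      (shortExact_tot_flip K (facCoker_shortExact φ) fun p q =>
        ((facSplitMono φ p).map ((ModSite.tensorBi O).flip.obj (K.X q))).mono)
      (isKFlat_iff.1 hK _ (acyclic_facCoker φ))
  haveI : QuasiIso (((ModSite.tensorCx O).flip.obj K).map (facSeq F F').g) :=
    quasiIso_g_of_acyclic (S := (facSeq F F').map ((ModSite.tensorCx O).flip.obj K)) upRel_next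
      (shortExact_tot_flip K (facSeqSplitting F F').shortExact fun p q =>
        ((((facSeqSplitting F F').map (HomologicalComplex.eval _ _ p)).map
          ((ModSite.tensorBi O).flip.obj (K.X q))).isSplitMono_f).mono)
      (isKFlat_iff.1 hK _ (acyclic_cone_id F))
  rw [← facI_snd φ, Functor.map_comp]
  exact quasiIso_comp _ _

/-- symmetry of the tensor product of sheaves of modules -/
noncomputable def braidBi : ModSite.tensorBi O ≅ (ModSite.tensorBi O).flip :=
  NatIso.ofComponents (fun G => braidIso G) (fun {G G'} g => by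
    ext1
    funext N
    exact ((sh O).map_comp _ _).symm.trans ((congrArg (sh O).map
      (BraidedCategory.braiding_naturality_left ((incl O).map g) ((incl O).obj N))).trans
        ((sh O).map_comp _ _)))

/-- the double complex iso from the symmetry -/
noncomputable def braidBicomplex (F K : Cx O) :
    (((ModSite.tensorBi O).mapBifunctorHomologicalComplex (.up ℤ) (.up ℤ)).obj F).obj K ≅
      (((ModSite.tensorBi O).flip.mapBifunctorHomologicalComplex (.up ℤ) (.up ℤ)).obj F).obj K :=
  HomologicalComplex.Hom.isoOfComponents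
    (fun p => HomologicalComplex.Hom.isoOfComponents (fun q => (braidBi.app (F.X p)).app (K.X q))
      (fun q q' _ => ((braidBi.hom.app (F.X p)).naturality (K.d q q')).symm))
    (fun p p' _ => HomologicalComplex.hom_ext _ _ fun q =>
      (congr_app (braidBi.hom.naturality (F.d p p')) (K.X q)).symm)

/-- `Tot(F ⊗ K) ≅ Tot(K ⊗ F)` -/
noncomputable def totBraidIso (F K : Cx O) : tot F K ≅ tot K F :=
  HomologicalComplex₂.total.mapIso (braidBicomplex F K) (.up ℤ) ≪≫
    mapBifunctorFlipIso K F (ModSite.tensorBi O) (.up ℤ)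

/-- a K-flat complex tensors acyclic complexes to acyclic ones from either side -/
theorem acyclic_tot_left {K F : Cx O} (hK : ModSite.IsKFlat K) (hF : F.Acyclic) : (tot K F).Acyclic :=
  acyclic_of_iso (totBraidIso F K) (isKFlat_iff.1 hK F hF)

set_option maxHeartbeats 4000000 in
/-- an acyclic K-flat complex kills every complex -/
theorem acyclic_tot_of_isKFlat_acyclic {K : Cx O} (hK : ModSite.IsKFlat K) (hac : K.Acyclic) (F : Cx O) :
    (tot F K).Acyclic := by
  obtain ⟨N, r, hN, -, hr, -⟩ := exists_resolution F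
  haveI := hr
  have h := quasiIso_tot_flip hK r
  exact @acyclic_of_quasiIso' (ModSite.Mod O) _ _ ℤ (.up ℤ) (tot N K) (tot F K)
    (((ModSite.tensorCx O).flip.obj K).map r) h (acyclic_tot_left hN hac)

/-- `Tot(F ⊗ -)` preserves quasi-isomorphisms between K-flat complexes. -/
theorem quasiIso_tot_obj {P Q : Cx O} (hP : ModSite.IsKFlat P) (hQ : ModSite.IsKFlat Q) (α : P ⟶ Q)
    [QuasiIso α] (F : Cx O) : QuasiIso (((ModSite.tensorCx O).obj F).map α) := by
  have hE : ModSite.IsKFlat (CochainComplex.mappingCone (𝟙 P)) := isKFlat_cone _ hP hP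
  have hm₂ : ∀ (G : ModSite.Mod O) (q : ℤ),
      Mono (((ModSite.tensorBi O).obj G).map ((facSeq P Q).f.f q)) :=
    mono_of_splitting fun q => (facSeqSplitting P Q).map (HomologicalComplex.eval _ _ q)
  have hX : ModSite.IsKFlat (CochainComplex.mappingCone (𝟙 P) ⊞ Q) :=
    isKFlat₂ (S := facSeq P Q) (facSeqSplitting P Q).shortExact hm₂ hE hQ
  have hm₁ : ∀ (G : ModSite.Mod O) (q : ℤ), Mono (((ModSite.tensorBi O).obj G).map ((facI α).f q)) :=
    fun G q => ((facSplitMono α q).map ((ModSite.tensorBi O).obj G)).mono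
  have hC : ModSite.IsKFlat (facCoker α).X₃ :=
    isKFlat₃ (S := facCoker α) (facCoker_shortExact α) hm₁ hP hX
  haveI : QuasiIso (((ModSite.tensorCx O).obj F).map (facI α)) :=
    quasiIso_f_of_acyclic (S := (facCoker α).map ((ModSite.tensorCx O).obj F)) upRel_prev
      (shortExact_tot_obj F (facCoker_shortExact α) fun p q => hm₁ (F.X p) q)
      (acyclic_tot_of_isKFlat_acyclic hC (acyclic_facCoker α) F)
  haveI : QuasiIso (((ModSite.tensorCx O).obj F).map (facSeq P Q).g) :=
    quasiIso_g_of_acyclic (S := (facSeq P Q).map ((ModSite.tensorCx O).obj F)) upRel_next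
      (shortExact_tot_obj F (facSeqSplitting P Q).shortExact fun p q => hm₂ (F.X p) q)
      (acyclic_tot_of_isKFlat_acyclic hE (acyclic_cone_id P) F)
  rw [← facI_snd α, Functor.map_comp]
  exact quasiIso_comp _ _

end Groth.Agent.SiteBase.KFlat
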