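import Groth.Agent.SiteBase.KFlat.Cycles
import Mathlib.Algebra.Homology.BifunctorAssociator

/-! # Associativity of the total tensor product; tensor products of K-flat complexes -/

universe u

open CategoryTheory Limits HomologicalComplex CochainComplex MonoidalCategory

namespace Groth.Agent.SiteBase.KFlat

section Monoidal

variable {V : Type*} [Category* V] [MonoidalCategory V]

lemma square_right {P P' Q Q' Z Z' : V} {p : P ⟶ Q} {p' : P' ⟶ Q'} {r : P ⟶ P'} {q : Q ⟶ Q'}
    (c : Z ⟶ Z') (h : p ≫ q = r ≫ p') : (p ▷ Z) ≫ (q ⊗ₘ c) = (r ⊗ₘ c) ≫ (p' ▷ Z') := by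
  rw [← tensorHom_id, ← tensorHom_id, tensorHom_comp_tensorHom, tensorHom_comp_tensorHom, h,
    Category.id_comp, Category.comp_id]

lemma square_left {P P' Q Q' Z Z' : V} {p : P ⟶ Q} {p' : P' ⟶ Q'} {r : P ⟶ P'} {q : Q ⟶ Q'}
    (a : Z ⟶ Z') (h : p ≫ q = r ≫ p') : (Z ◁ p) ≫ (a ⊗ₘ q) = (a ⊗ₘ r) ≫ (Z' ◁ p') := by
  rw [← id_tensorHom, ← id_tensorHom, tensorHom_comp_tensorHom, tensorHom_comp_tensorHom, h,
    Category.id_comp, Category.comp_id]

end Monoidal

variable {C : Type u} [SmallCategory C] {J : GrothendieckTopology C} {O : Sheaf J CommRingCat.{u}}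

/-- associator on presheaves of modules, sheafified -/
noncomputable def assocP (A B D : PMod O) :
    (sh O).obj ((incl O).obj ((sh O).obj (A ⊗ B)) ⊗ D) ≅
      (sh O).obj (A ⊗ (incl O).obj ((sh O).obj (B ⊗ D))) :=
  ((tensorDescIso O D).app (A ⊗ B)).symm ≪≫ (sh O).mapIso (α_ A B D) ≪≫ (tensorUnitIso (B ⊗ D)).app A

lemma assocP_spec (A B D : PMod O) :
    (sh O).map ((shAdj O).unit.app (A ⊗ B) ▷ D) ≫ (assocP A B D).hom =
      (sh O).map ((α_ A B D).hom ≫ (A ◁ (shAdj O).unit.app (B ⊗ D))) := by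
  rw [Functor.map_comp]
  exact ((tensorDescIso O D).app (A ⊗ B)).hom_inv_id_assoc _

lemma assocP_natural {A A' B B' D D' : PMod O} (a : A ⟶ A') (b : B ⟶ B') (d : D ⟶ D') :
    (sh O).map ((incl O).map ((sh O).map (a ⊗ₘ b)) ⊗ₘ d) ≫ (assocP A' B' D').hom =
      (assocP A B D).hom ≫ (sh O).map (a ⊗ₘ (incl O).map ((sh O).map (b ⊗ₘ d))) := by
  haveI := isIso_sh_map_whiskerRight ((shAdj O).unit.app (A ⊗ B)) D
  have hab : (shAdj O).unit.app (A ⊗ B) ≫ (incl O).map ((sh O).map (a ⊗ₘ b)) =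
      (a ⊗ₘ b) ≫ (shAdj O).unit.app (A' ⊗ B') := ((shAdj O).unit.naturality (a ⊗ₘ b)).symm
  have hbd : (shAdj O).unit.app (B ⊗ D) ≫ (incl O).map ((sh O).map (b ⊗ₘ d)) =
      (b ⊗ₘ d) ≫ (shAdj O).unit.app (B' ⊗ D') := ((shAdj O).unit.naturality (b ⊗ₘ d)).symm
  rw [← cancel_epi ((sh O).map ((shAdj O).unit.app (A ⊗ B) ▷ D)), reassoc_of% assocP_spec A B D,
    ← Category.assoc, ← Functor.map_comp, ← Functor.map_comp,
    square_right d hab, Functor.map_comp, Category.assoc,
    assocP_spec, ← Functor.map_comp]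
  refine congrArg (sh O).map ?_
  rw [Category.assoc, square_left a hbd, associator_naturality_assoc]

/-- `(A ⊗ B) ⊗ D ≅ A ⊗ (B ⊗ D)` naturally -/
noncomputable def assocBi :
    bifunctorComp₁₂ (ModSite.tensorBi O) (ModSite.tensorBi O) ≅
      bifunctorComp₂₃ (ModSite.tensorBi O) (ModSite.tensorBi O) :=
  NatIso.ofComponents
    (fun A => NatIso.ofComponents
      (fun B => NatIso.ofComponents
        (fun D => assocP ((incl O).obj A) ((incl O).obj B) ((incl O).obj D))
        (fun {D D'} d => by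
          have h := assocP_natural (𝟙 ((incl O).obj A)) (𝟙 ((incl O).obj B)) ((incl O).map d)
          rw [id_tensorHom_id, (sh O).map_id, (incl O).map_id, id_tensorHom, id_tensorHom,
            id_tensorHom] at h
          exact h))
      (fun {B B'} b => NatTrans.ext (funext fun D => by
        have h := assocP_natural (𝟙 ((incl O).obj A)) ((incl O).map b) (𝟙 ((incl O).obj D))
        rw [id_tensorHom, tensorHom_id, tensorHom_id, id_tensorHom] at h
        exact h)))
    (fun {A A'} a => NatTrans.ext (funext fun B => NatTrans.ext (funext fun D => by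
      have h := assocP_natural ((incl O).map a) (𝟙 ((incl O).obj B)) (𝟙 ((incl O).obj D))
      rw [id_tensorHom_id, (sh O).map_id, (incl O).map_id, tensorHom_id, tensorHom_id,
        tensorHom_id] at h
      exact h)))

set_option maxHeartbeats 4000000 in
/-- `Tot(Tot(F ⊗ K) ⊗ L) ≅ Tot(F ⊗ Tot(K ⊗ L))` -/
noncomputable def totAssocIso (F K L : Cx O) : tot (tot F K) L ≅ tot F (tot K L) :=
  mapBifunctorAssociator assocBi F K L (.up ℤ) (.up ℤ) (.up ℤ)

/-- The total tensor product of K-flat complexes is K-flat. -/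
theorem isKFlat_tot {K L : Cx O} (hK : ModSite.IsKFlat K) (hL : ModSite.IsKFlat L) :
    ModSite.IsKFlat (tot K L) :=
  isKFlat_iff.2 fun F hF =>
    acyclic_of_iso (totAssocIso F K L) (isKFlat_iff.1 hL _ (isKFlat_iff.1 hK F hF))

end Groth.Agent.SiteBase.KFlat
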