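import Groth.Agent.SiteBase.KFlat.QuasiIso
import Mathlib.Algebra.Homology.Embedding.CochainComplex

/-! # Bounded above complexes of flat modules are K-flat -/

universe u

open CategoryTheory Limits HomologicalComplex CochainComplex

namespace Groth.Agent.SiteBase.KFlat

variable {C : Type u} [SmallCategory C] {J : GrothendieckTopology C} {O : Sheaf J CommRingCat.{u}}

/-- degrees `≥ a` -/
noncomputable abbrev trX (K : Cx O) (a q : ℤ) : ModSite.Mod O := ∐ fun _ : PLift (a ≤ q) => K.X q

/-- the subcomplex in degrees `≥ a` -/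
noncomputable def tr (K : Cx O) (a : ℤ) : Cx O where
  X := trX K a
  d q q' := Sigma.desc fun _ =>
    if h' : a ≤ q' then K.d q q' ≫ Sigma.ι (fun _ : PLift (a ≤ q') => K.X q') ⟨h'⟩ else 0
  shape q q' h := Sigma.hom_ext _ _ fun _ => by
    rw [Sigma.ι_desc, comp_zero]
    split_ifs <;> simp [K.shape q q' h]
  d_comp_d' q q' q'' h h' := Sigma.hom_ext _ _ fun i => by
    obtain rfl : q + 1 = q' := h
    obtain rfl : q + 1 + 1 = q'' := h'
    have := i.down
    rw [Sigma.ι_desc_assoc, dif_pos (by omega), Category.assoc, Sigma.ι_desc, dif_pos (by omega),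
      ← Category.assoc, K.d_comp_d, zero_comp, comp_zero]

lemma ι_tr_d (K : Cx O) (a q : ℤ) (i : PLift (a ≤ q)) (h' : a ≤ q + 1) :
    Sigma.ι (fun _ : PLift (a ≤ q) => K.X q) i ≫ (tr K a).d q (q + 1) =
      K.d q (q + 1) ≫ Sigma.ι (fun _ : PLift (a ≤ q + 1) => K.X (q + 1)) ⟨h'⟩ :=
  (Sigma.ι_desc _ i).trans (dif_pos h')

/-- components of the inclusion -/
noncomputable abbrev trιF (K : Cx O) (a q : ℤ) : (tr K a).X q ⟶ K.X q := Sigma.desc fun _ => 𝟙 _

lemma ι_trιF (K : Cx O) (a q : ℤ) (i : PLift (a ≤ q)) :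
    Sigma.ι (fun _ : PLift (a ≤ q) => K.X q) i ≫ trιF K a q = 𝟙 _ := Sigma.ι_desc _ i

/-- the inclusion -/
noncomputable def trι (K : Cx O) (a : ℤ) : tr K a ⟶ K where
  f := trιF K a
  comm' q q' h := Sigma.hom_ext _ _ fun i => by
    obtain rfl : q + 1 = q' := h
    have := i.down
    refine ((Category.assoc _ _ _).symm.trans ((congrArg (· ≫ K.d q (q + 1)) (ι_trιF K a q i)).trans
      (Category.id_comp _))).trans ?_
    refine Eq.symm (((Category.assoc _ _ _).symm.trans
      (congrArg (· ≫ trιF K a (q + 1)) (ι_tr_d K a q i (by omega)))).trans ?_)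
    exact (Category.assoc _ _ _).trans ((congrArg (K.d q (q + 1) ≫ ·) (ι_trιF _ _ _ _)).trans
      (Category.comp_id _))

/-- components of transition maps -/
noncomputable abbrev trMapF (K : Cx O) {a a' : ℤ} (h : a' ≤ a) (q : ℤ) : (tr K a).X q ⟶ (tr K a').X q :=
  Sigma.desc fun i => Sigma.ι (fun _ : PLift (a' ≤ q) => K.X q) ⟨h.trans i.down⟩

lemma ι_trMapF (K : Cx O) {a a' : ℤ} (h : a' ≤ a) (q : ℤ) (i : PLift (a ≤ q)) :
    Sigma.ι (fun _ : PLift (a ≤ q) => K.X q) i ≫ trMapF K h q =
      Sigma.ι (fun _ : PLift (a' ≤ q) => K.X q) ⟨h.trans i.down⟩ := Sigma.ι_desc _ i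

/-- transition maps -/
noncomputable def trMap (K : Cx O) {a a' : ℤ} (h : a' ≤ a) : tr K a ⟶ tr K a' where
  f := trMapF K h
  comm' q q' hq := Sigma.hom_ext _ _ fun i => by
    obtain rfl : q + 1 = q' := hq
    have := i.down
    refine ((Category.assoc _ _ _).symm.trans ((congrArg (· ≫ (tr K a').d q (q + 1)) (ι_trMapF K h q i)).trans
      (ι_tr_d K a' q _ (by omega)))).trans ?_
    refine Eq.symm (((Category.assoc _ _ _).symm.trans
      (congrArg (· ≫ trMapF K h (q + 1)) (ι_tr_d K a q i (by omega)))).trans ?_)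
    exact (Category.assoc _ _ _).trans (congrArg (K.d q (q + 1) ≫ ·) (ι_trMapF _ _ _ _))

lemma isZero_tr {K : Cx O} {a q : ℤ} (h : ¬ a ≤ q ∨ IsZero (K.X q)) : IsZero ((tr K a).X q) :=
  (IsZero.iff_id_eq_zero _).2 (Sigma.hom_ext _ _ fun i =>
    (h.resolve_left (not_not.2 i.down)).eq_of_src _ _)

lemma isIso_trι {K : Cx O} {a q : ℤ} (h : a ≤ q) : IsIso ((trι K a).f q) :=
  ⟨Sigma.ι (fun _ : PLift (a ≤ q) => K.X q) ⟨h⟩,
    Sigma.hom_ext _ _ fun i => (((Category.assoc _ _ _).symm.trans
      (congrArg (· ≫ Sigma.ι (fun _ : PLift (a ≤ q) => K.X q) ⟨h⟩) (ι_trιF K a q i))).trans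
        (Category.id_comp _)).trans (Category.comp_id _).symm,
    ι_trιF K a q ⟨h⟩⟩

@[reassoc]
lemma trMap_trι (K : Cx O) {a a' : ℤ} (h : a' ≤ a) : trMap K h ≫ trι K a' = trι K a :=
  HomologicalComplex.hom_ext _ _ fun q => Sigma.hom_ext _ _ fun i =>
    ((Category.assoc _ _ _).symm.trans ((congrArg (· ≫ trιF K a' q) (ι_trMapF K h q i)).trans
      (ι_trιF _ _ _ _))).trans (ι_trιF K a q i).symm

lemma trMap_refl (K : Cx O) {a : ℤ} (h : a ≤ a) : trMap K h = 𝟙 _ :=
  HomologicalComplex.hom_ext _ _ fun q => Sigma.hom_ext _ _ fun x =>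
    (ι_trMapF K h q x).trans (Category.comp_id _).symm

lemma trMap_comp (K : Cx O) {a a' a'' : ℤ} (h : a' ≤ a) (h' : a'' ≤ a') :
    trMap K (h'.trans h) = trMap K h ≫ trMap K h' :=
  HomologicalComplex.hom_ext _ _ fun q => Sigma.hom_ext _ _ fun x =>
    (ι_trMapF K (h'.trans h) q x).trans ((Category.assoc _ _ _).symm.trans
      ((congrArg (· ≫ trMapF K h' q) (ι_trMapF K h q x)).trans (ι_trMapF K h' q _))).symm

lemma isIso_trMap {K : Cx O} {a a' : ℤ} (h : a' ≤ a) {q : ℤ} (hq : a ≤ q) :
    IsIso ((trMap K h).f q) := by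
  haveI := isIso_trι (K := K) hq
  haveI := isIso_trι (K := K) (h.trans hq)
  haveI : IsIso ((trMap K h).f q ≫ (trι K a').f q) := by
    rw [← HomologicalComplex.comp_f, trMap_trι]; infer_instance
  exact IsIso.of_isIso_comp_right _ ((trι K a').f q)

variable {K : Cx O} (hflat : ∀ n, ModSite.IsFlat (K.X n))

include hflat in
lemma isFlat_tr (a q : ℤ) : ModSite.IsFlat ((tr K a).X q) := by
  by_cases h : a ≤ q
  · haveI := isIso_trι (K := K) h
    exact isFlat_of_iso (asIso ((trι K a).f q)).symm (hflat q)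
  · exact isFlat_of_isZero (isZero_tr (.inl h))

include hflat in
lemma isKFlat_tr (b : ℤ) (hb : ∀ q, b < q → IsZero (K.X q)) :
    ∀ j : ℕ, ModSite.IsKFlat (tr K (b - j))
  | 0 => isKFlat_of_isZero b (fun q hq => isZero_tr (by
      rcases lt_or_gt_of_ne hq with h | h
      · exact .inl (by omega)
      · exact .inr (hb q h))) (isFlat_tr hflat _ _)
  | j + 1 => by
    have h : b - (j + 1 : ℕ) ≤ b - j := by omega
    let f := trMap K h
    haveI : Mono f := HomologicalComplex.mono_of_mono_f _ fun q => by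
      by_cases hq : b - j ≤ q
      · haveI := isIso_trMap (K := K) h hq; infer_instance
      · exact ⟨fun u v _ => (isZero_tr (.inl hq)).eq_of_tgt u v⟩
    let S := ShortComplex.mk f (cokernel.π f) (cokernel.condition f)
    have hS : S.ShortExact := { exact := ShortComplex.exact_cokernel f }
    have hm : ∀ (G : ModSite.Mod O) (q : ℤ), Mono (((ModSite.tensorBi O).obj G).map (S.f.f q)) := by
      intro G q
      by_cases hq : b - j ≤ q
      · haveI := isIso_trMap (K := K) h hq; infer_instance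
      · exact ⟨fun u v _ => (((ModSite.tensorBi O).obj G).map_isZero (isZero_tr (.inl hq))).eq_of_tgt u v⟩
    refine isKFlat₂ (S := S) hS hm (isKFlat_tr b hb j) (isKFlat_of_isZero (b - (j + 1 : ℕ)) ?_ ?_)
    · intro q hq
      haveI := (hS.map_of_exact (HomologicalComplex.eval _ _ q)).epi_g
      haveI : Epi (f.f q) := by
        by_cases hq' : b - j ≤ q
        · haveI := isIso_trMap (K := K) h hq'; infer_instance
        · exact ⟨fun u v _ => (isZero_tr (.inl (by omega))).eq_of_src u v⟩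
      refine (IsZero.iff_id_eq_zero _).2 ((cancel_epi ((cokernel.π f).f q)).1 ((cancel_epi (f.f q)).1 ?_))
      rw [← Category.assoc, ← Category.assoc, ← HomologicalComplex.comp_f, cokernel.condition]
      simp
    · have hT := hS.map_of_exact (HomologicalComplex.eval _ _ (b - (j + 1 : ℕ)))
      haveI : Epi ((cokernel.π f).f (b - (j + 1 : ℕ))) := hT.epi_g
      have h0 : f.f (b - (j + 1 : ℕ)) = 0 := (isZero_tr (.inl (by omega))).eq_of_src _ _
      haveI : Mono ((cokernel.π f).f (b - (j + 1 : ℕ))) := hT.exact.mono_g h0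
      haveI := isIso_of_mono_of_epi ((cokernel.π f).f (b - (j + 1 : ℕ)))
      exact isFlat_of_iso (asIso ((cokernel.π f).f _)) (isFlat_tr hflat _ _)

include hflat in
/-- A bounded above complex of flat modules is K-flat. -/
theorem isKFlat_of_bddAbove (b : ℤ) (hb : ∀ q, b < q → IsZero (K.X q)) : ModSite.IsKFlat K := by
  let D : ℕ ⥤ Cx O :=
    { obj := fun j => tr K (b - j)
      map := fun {i j} h => trMap K (by have := leOfHom h; omega)
      map_id := fun i => trMap_refl K _
      map_comp := fun {i j k} h h' => trMap_comp K _ _ }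
  let c : Cocone D :=
    { pt := K
      ι :=
        { app := fun j => trι K (b - j)
          naturality := fun i j h =>
            (trMap_trι K (by have := leOfHom h; omega)).trans (Category.comp_id _).symm } }
  let hc : IsColimit c := HomologicalComplex.isColimitOfEval D c fun q =>
    { desc := fun s => Sigma.ι (fun _ : PLift (b - ((b - q).toNat : ℕ) ≤ q) => K.X q) ⟨by omega⟩ ≫
        s.ι.app (b - q).toNat
      fac := fun s j => Sigma.hom_ext _ _ fun x => by
        refine ((Category.assoc _ _ _).symm.trans ((congrArg (· ≫ (Sigma.ι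
          (fun _ : PLift (b - ((b - q).toNat : ℕ) ≤ q) => K.X q) ⟨by omega⟩ ≫ s.ι.app (b - q).toNat))
          (ι_trιF K _ q x)).trans (Category.id_comp _))).trans ?_
        rw [← s.w (homOfLE (le_max_left (b - q).toNat j)), ← s.w (homOfLE (le_max_right (b - q).toNat j))]
        refine ((Category.assoc _ _ _).symm.trans (congrArg (· ≫ s.ι.app _)
          (ι_trMapF K (show b - (max (b - q).toNat j : ℕ) ≤ b - ((b - q).toNat : ℕ) by omega) q _))).trans ?_
        exact ((Category.assoc _ _ _).symm.trans (congrArg (· ≫ s.ι.app _)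
          (ι_trMapF K (show b - (max (b - q).toNat j : ℕ) ≤ b - (j : ℤ) by omega) q x))).symm
      uniq := fun s m hm => by
        refine Eq.symm ((congrArg (_ ≫ ·) (hm _).symm).trans ?_)
        exact (Category.assoc _ _ _).symm.trans ((congrArg (· ≫ m) (ι_trιF K _ q _)).trans
          (Category.id_comp m)) }
  exact isKFlat_colimit (I := ℕ) D (fun j => isKFlat_tr hflat b hb j) (c := c) hc

end Groth.Agent.SiteBase.KFlat
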