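import Groth.Agent.SiteBase.KFlat.Assoc

/-! # Restriction of K-flat complexes -/

universe u

open CategoryTheory Limits HomologicalComplex CochainComplex MonoidalCategory

namespace Groth.Agent.SiteBase.KFlat

variable {C : Type u} [SmallCategory C] {J : GrothendieckTopology C} {O : Sheaf J CommRingCat.{u}} {U : C}

/-- projection formula: presheaf on `C/U`, presheaf on `C` -/
noncomputable def projShIso (g : PMod (O.over U)) (M : PMod O) :
    (ModSite.extZero O U).obj ((sh (O.over U)).obj (g ⊗ (restrP O U).obj M)) ≅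
      (sh O).obj ((incl O).obj ((sh O).obj ((extP O U).obj g)) ⊗ M) :=
  (shExtIso O U).app (g ⊗ (restrP O U).obj M) ≪≫ (sh O).mapIso (projIso g M).symm ≪≫
    (tensorDescIso O M).app ((extP O U).obj g)

lemma projShIso_natural_right (g : PMod (O.over U)) {M M' : PMod O} (μ : M ⟶ M') :
    (ModSite.extZero O U).map ((sh (O.over U)).map (g ◁ (restrP O U).map μ)) ≫ (projShIso g M').hom =
      (projShIso g M).hom ≫ (sh O).map ((incl O).obj ((sh O).obj ((extP O U).obj g)) ◁ μ) := by
  have h₁ : (extP O U).map (g ◁ (restrP O U).map μ) ≫ (projIso g M').inv =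
      (projIso g M).inv ≫ ((extP O U).obj g ◁ μ) := by
    rw [Iso.eq_inv_comp, ← Category.assoc, ← projIso_natural_right, Category.assoc, Iso.hom_inv_id,
      Category.comp_id]
  have h₀ : (ModSite.extZero O U).map ((sh (O.over U)).map (g ◁ (restrP O U).map μ)) ≫
      (shExtIso O U).hom.app (g ⊗ (restrP O U).obj M') =
    (shExtIso O U).hom.app (g ⊗ (restrP O U).obj M) ≫
      (sh O).map ((extP O U).map (g ◁ (restrP O U).map μ)) :=
    (shExtIso O U).hom.naturality _
  simp only [projShIso, tensorDescIso, Iso.trans_hom, Iso.app_hom, Functor.mapIso_hom, Iso.symm_hom,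
    NatIso.ofComponents_hom_app, asIso_hom, Category.assoc]
  rw [reassoc_of% h₀, ← Functor.map_comp_assoc, h₁, Functor.map_comp_assoc]
  refine congrArg _ (congrArg _ ?_)
  erw [← (sh O).map_comp, ← (sh O).map_comp, whisker_exchange]
  rfl

lemma projShIso_natural_left {g g' : PMod (O.over U)} (a : g ⟶ g') (M : PMod O) :
    (ModSite.extZero O U).map ((sh (O.over U)).map (a ▷ (restrP O U).obj M)) ≫ (projShIso g' M).hom =
      (projShIso g M).hom ≫ (sh O).map ((incl O).map ((sh O).map ((extP O U).map a)) ▷ M) := by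
  have h₁ : (extP O U).map (a ▷ (restrP O U).obj M) ≫ (projIso g' M).inv =
      (projIso g M).inv ≫ ((extP O U).map a ▷ M) := by
    rw [Iso.eq_inv_comp, ← Category.assoc, ← projIso_natural_left, Category.assoc, Iso.hom_inv_id,
      Category.comp_id]
  have h₀ : (ModSite.extZero O U).map ((sh (O.over U)).map (a ▷ (restrP O U).obj M)) ≫
      (shExtIso O U).hom.app (g' ⊗ (restrP O U).obj M) =
    (shExtIso O U).hom.app (g ⊗ (restrP O U).obj M) ≫
      (sh O).map ((extP O U).map (a ▷ (restrP O U).obj M)) :=
    (shExtIso O U).hom.naturality _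
  simp only [projShIso, Iso.trans_hom, Iso.app_hom, Functor.mapIso_hom, Iso.symm_hom, Category.assoc]
  rw [reassoc_of% h₀, ← Functor.map_comp_assoc, h₁, Functor.map_comp_assoc]
  exact congrArg (fun t => (shExtIso O U).hom.app (g ⊗ (restrP O U).obj M) ≫ (sh O).map (projIso g M).inv ≫ t)
    ((tensorDescIso O M).hom.naturality ((extP O U).map a))

/-- `j_!(G ⊗ M|U) ≅ j_! G ⊗ M` -/
noncomputable def projObjIso (G : ModSite.Mod (O.over U)) (M : ModSite.Mod O) :
    (ModSite.extZero O U).obj (((ModSite.tensorBi (O.over U)).obj G).obj ((ModSite.restr O U).obj M)) ≅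
      ((ModSite.tensorBi O).obj ((ModSite.extZero O U).obj G)).obj M :=
  projShIso ((incl (O.over U)).obj G) ((incl O).obj M) ≪≫
    (sh O).mapIso (whiskerRightIso ((incl O).mapIso ((extZeroIso O U).app G).symm) ((incl O).obj M))

lemma projObjIso_natural_left {G G' : ModSite.Mod (O.over U)} (a : G ⟶ G') (M : ModSite.Mod O) :
    (ModSite.extZero O U).map (((ModSite.tensorBi (O.over U)).map a).app ((ModSite.restr O U).obj M)) ≫
        (projObjIso G' M).hom =
      (projObjIso G M).hom ≫ ((ModSite.tensorBi O).map ((ModSite.extZero O U).map a)).app M := by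
  refine ((Category.assoc _ _ _).symm.trans (congrArg (· ≫ _)
    (projShIso_natural_left ((incl (O.over U)).map a) ((incl O).obj M)))).trans ?_
  refine (Category.assoc _ _ _).trans (Eq.trans ?_ (Category.assoc _ _ _).symm)
  refine congrArg (_ ≫ ·) ?_
  refine (((sh O).map_comp _ _).symm.trans (congrArg (sh O).map ?_)).trans ((sh O).map_comp _ _)
  refine ((comp_whiskerRight _ _ _).symm.trans
    (congrArg (· ▷ (incl O).obj M) ?_)).trans (comp_whiskerRight _ _ _)
  exact (((incl O).map_comp _ _).symm.trans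
    (congrArg (incl O).map ((extZeroIso O U).inv.naturality a))).trans ((incl O).map_comp _ _)

lemma projObjIso_natural_right (G : ModSite.Mod (O.over U)) {M M' : ModSite.Mod O} (m : M ⟶ M') :
    (ModSite.extZero O U).map (((ModSite.tensorBi (O.over U)).obj G).map ((ModSite.restr O U).map m)) ≫
        (projObjIso G M').hom =
      (projObjIso G M).hom ≫ ((ModSite.tensorBi O).obj ((ModSite.extZero O U).obj G)).map m := by
  refine ((Category.assoc _ _ _).symm.trans (congrArg (· ≫ _)
    (projShIso_natural_right ((incl (O.over U)).obj G) ((incl O).map m)))).trans ?_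
  refine (Category.assoc _ _ _).trans (Eq.trans ?_ (Category.assoc _ _ _).symm)
  refine congrArg (_ ≫ ·) ?_
  refine (((sh O).map_comp _ _).symm.trans (congrArg (sh O).map ?_)).trans ((sh O).map_comp _ _)
  exact whisker_exchange _ _

variable (F : Cx (O.over U)) (K : Cx O)

/-- complexes over `C/U` -/
noncomputable abbrev resK : Cx (O.over U) :=
  ((ModSite.restr O U).mapHomologicalComplex (ComplexShape.up ℤ)).obj K

/-- complexes extended by zero -/
noncomputable abbrev extF : Cx O :=
  ((ModSite.extZero O U).mapHomologicalComplex (ComplexShape.up ℤ)).obj F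

/-- the projection formula in each bidegree -/
noncomputable abbrev projPQ (p q : ℤ) :
    (ModSite.extZero O U).obj (((ModSite.tensorBi (O.over U)).obj (F.X p)).obj ((resK K).X q)) ≅
      ((ModSite.tensorBi O).obj ((extF F).X p)).obj (K.X q) :=
  projObjIso (F.X p) (K.X q)

/-- `Tot(j_! F ⊗ K) ⟶ j_! Tot(F ⊗ K|U)`, in degree `n` -/
noncomputable def totProjF (n : ℤ) :
    (tot (extF F) K).X n ⟶ (ModSite.extZero O U).obj ((tot F (resK K)).X n) :=
  mapBifunctorDesc fun p q h => (projPQ F K p q).inv ≫
    (ModSite.extZero O U).map (ιMapBifunctor F (resK K) (ModSite.tensorBi (O.over U)) (.up ℤ) p q n h)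

lemma ι_totProjF (p q n : ℤ) (h : p + q = n) :
    ιMapBifunctor (extF F) K (ModSite.tensorBi O) (.up ℤ) p q n h ≫ totProjF F K n =
      (projPQ F K p q).inv ≫
        (ModSite.extZero O U).map (ιMapBifunctor F (resK K) (ModSite.tensorBi (O.over U)) (.up ℤ) p q n h) :=
  ι_mapBifunctorDesc _ p q h

instance isIso_totProjF (n : ℤ) : IsIso (totProjF F K n) := by
  haveI : PreservesColimitsOfSize.{u, u} (ModSite.extZero O U) :=
    (ModSite.extZeroAdj O U).leftAdjoint_preservesColimits
  haveI : PreservesColimitsOfSize.{0, 0} (ModSite.extZero O U) :=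
    preservesColimitsOfSize_shrink.{0, u, 0, u} _
  let hc := isColimitOfPreserves (ModSite.extZero O U)
    (GradedObject.isColimitCofanMapObj
      ((((ModSite.tensorBi (O.over U)).mapBifunctorHomologicalComplex (.up ℤ) (.up ℤ)).obj F).obj
        (resK K)).toGradedObject (ComplexShape.π (.up ℤ) (.up ℤ) (.up ℤ)) n)
  refine ⟨hc.desc ⟨(tot (extF F) K).X n, Discrete.natTrans fun i =>
    (projPQ F K i.as.1.1 i.as.1.2).hom ≫
      ιMapBifunctor (extF F) K (ModSite.tensorBi O) (.up ℤ) i.as.1.1 i.as.1.2 n i.as.2⟩, ?_, ?_⟩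
  · apply mapBifunctor.hom_ext
    intro p q h
    refine ((Category.assoc _ _ _).symm.trans ((congrArg (· ≫ hc.desc _) (ι_totProjF F K p q n h)).trans
      (Category.assoc _ _ _))).trans ?_
    refine ((congrArg ((projPQ F K p q).inv ≫ ·) (hc.fac _ ⟨⟨(p, q), h⟩⟩)).trans ?_).trans
      (Category.comp_id _).symm
    exact (projPQ F K p q).inv_hom_id_assoc _
  · refine hc.hom_ext fun i => ?_
    refine Eq.trans ?_ (Category.comp_id _).symm
    refine ((Category.assoc _ _ _).symm.trans (congrArg (· ≫ totProjF F K n) (hc.fac _ i))).trans ?_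
    refine (Category.assoc _ _ _).trans ((congrArg ((projPQ F K _ _).hom ≫ ·)
      (ι_totProjF F K i.as.1.1 i.as.1.2 n i.as.2)).trans ((projPQ F K _ _).hom_inv_id_assoc _))

set_option maxHeartbeats 4000000 in
/-- `Tot(j_! F ⊗ K) ≅ j_! Tot(F ⊗ K|U)` -/
noncomputable def totProjIso :
    tot (extF F) K ≅ ((ModSite.extZero O U).mapHomologicalComplex (ComplexShape.up ℤ)).obj (tot F (resK K)) :=
  HomologicalComplex.Hom.isoOfComponents (fun n => @asIso _ _ _ _ (totProjF F K n) (isIso_totProjF F K n)) (fun n m hnm => by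
    obtain rfl : n + 1 = m := hnm
    apply mapBifunctor.hom_ext
    intro p q h
    let j := ModSite.extZero O U
    refine ((Category.assoc _ _ _).symm.trans ((congrArg
      (· ≫ j.map ((mapBifunctor F (resK K) (ModSite.tensorBi (O.over U)) (.up ℤ)).d n (n + 1)))
      (ι_totProjF F K p q n h)).trans ((Category.assoc _ _ _).trans
        (congrArg ((projPQ F K p q).inv ≫ ·) (j.map_comp _ _).symm)))).trans ?_
    show (projPQ F K p q).inv ≫ j.map (ιMapBifunctor F (resK K) _ _ p q n h ≫
        (mapBifunctor F (resK K) (ModSite.tensorBi (O.over U)) (.up ℤ)).d n (n + 1)) =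
      ιMapBifunctor (extF F) K _ _ p q n h ≫
        (mapBifunctor (extF F) K (ModSite.tensorBi O) (.up ℤ)).d n (n + 1) ≫ totProjF F K (n + 1)
    have hn : p + q = n := h
    rw [mapBifunctor.d_eq, mapBifunctor.d_eq, Preadditive.add_comp, Preadditive.comp_add,
      Preadditive.comp_add, mapBifunctor.ι_D₁, mapBifunctor.ι_D₂, mapBifunctor.ι_D₁_assoc,
      mapBifunctor.ι_D₂_assoc,
      mapBifunctor.d₁_eq F (resK K) _ (.up ℤ) (show (ComplexShape.up ℤ).Rel p (p + 1) from rfl) q _
        (show p + 1 + q = n + 1 by omega),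
      mapBifunctor.d₂_eq F (resK K) _ (.up ℤ) p (show (ComplexShape.up ℤ).Rel q (q + 1) from rfl) _
        (show p + (q + 1) = n + 1 by omega),
      mapBifunctor.d₁_eq (extF F) K _ (.up ℤ) (show (ComplexShape.up ℤ).Rel p (p + 1) from rfl) q _
        (show p + 1 + q = n + 1 by omega),
      mapBifunctor.d₂_eq (extF F) K _ (.up ℤ) p (show (ComplexShape.up ℤ).Rel q (q + 1) from rfl) _
        (show p + (q + 1) = n + 1 by omega)]
    simp only [Functor.map_add, Functor.map_units_smul, Preadditive.comp_add, Linear.comp_units_smul,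
      Linear.units_smul_comp, Category.assoc, ι_totProjF, Functor.map_comp]
    congr 2
    · refine (Category.assoc _ _ _).symm.trans (Eq.trans ?_ (Category.assoc _ _ _))
      refine congrArg (· ≫ _) ?_
      rw [Iso.eq_comp_inv, Category.assoc, Iso.inv_comp_eq]
      exact projObjIso_natural_left (F.d p (p + 1)) (K.X q)
    · refine (Category.assoc _ _ _).symm.trans (Eq.trans ?_ (Category.assoc _ _ _))
      refine congrArg (· ≫ _) ?_
      rw [Iso.eq_comp_inv, Category.assoc, Iso.inv_comp_eq]
      exact projObjIso_natural_right (F.X p) (K.d q (q + 1)))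

/-- Restrictions of K-flat complexes are K-flat. -/
theorem isKFlat_restr {K : Cx O} (hK : ModSite.IsKFlat K) : ModSite.IsKFlat (resK (U := U) K) := by
  refine isKFlat_iff.2 fun F hF => ?_
  haveI := extZero_preservesFiniteLimits O U
  haveI := extZero_faithful O U
  haveI : PreservesColimitsOfSize.{u, u} (ModSite.extZero O U) :=
    (ModSite.extZeroAdj O U).leftAdjoint_preservesColimits
  haveI : PreservesFiniteColimits (ModSite.extZero O U) :=
    PreservesColimitsOfSize.preservesFiniteColimits _
  have hF' : (extF F).Acyclic := fun n => by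
    rw [HomologicalComplex.exactAt_iff' _ (n - 1) n (n + 1) (by simp) (by simp)]
    exact ((F.exactAt_iff' (n - 1) n (n + 1) (by simp) (by simp)).1 (hF n)).map (ModSite.extZero O U)
  intro n
  rw [HomologicalComplex.exactAt_iff' _ (n - 1) n (n + 1) (by simp) (by simp)]
  have h := (HomologicalComplex.exactAt_iff' _ (n - 1) n (n + 1) (by simp) (by simp)).1
    (acyclic_of_iso (totProjIso F K) (isKFlat_iff.1 hK (extF F) hF') n)
  exact (ShortComplex.exact_map_iff_of_faithful _ (ModSite.extZero O U)).1 h

end Groth.Agent.SiteBase.KFlat
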