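import Groth.Agent.SiteBase.ModFlat
import Groth.Prelude.Def_KFlatSite
import Mathlib.Algebra.Homology.BifunctorHomotopy
import Mathlib.Algebra.Homology.HomologicalComplexLimits
import Mathlib.Algebra.Homology.HomologySequence
import Mathlib.Algebra.Homology.GrothendieckAbelian
import Mathlib.CategoryTheory.Abelian.GrothendieckAxioms.Colim

/-! # Total tensor product of complexes of sheaves of modules: basic exactness -/

universe u

open CategoryTheory Limits HomologicalComplex

namespace Groth.Agent.SiteBase.KFlat

variable {C : Type u} [SmallCategory C] {J : GrothendieckTopology C} {O : Sheaf J CommRingCat.{u}}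

/-- complexes of sheaves of modules -/
abbrev Cx (O : Sheaf J CommRingCat.{u}) := CochainComplex (ModSite.Mod O) ℤ

/-- `Tot(F ⊗ K)` -/
noncomputable abbrev tot (F K : Cx O) : Cx O := ((ModSite.tensorCx O).obj F).obj K

instance ab5_zero : AB5OfSize.{0, 0} (ModSite.Mod O) :=
  haveI := AB5OfSize_shrink.{0, 0, u, u} (ModSite.Mod O)
  this

instance ab4_zero : AB4OfSize.{0} (ModSite.Mod O) :=
  haveI : HasFiniteBiproducts (ModSite.Mod O) := Abelian.hasFiniteBiproducts
  AB4.of_AB5 _

instance preservesColimitsOfSize_zero_obj (G : ModSite.Mod O) :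
    PreservesColimitsOfSize.{0, 0} ((ModSite.tensorBi O).obj G) :=
  preservesColimitsOfSize_shrink.{0, u, 0, u} _

instance preservesColimitsOfSize_zero_flip (G : ModSite.Mod O) :
    PreservesColimitsOfSize.{0, 0} ((ModSite.tensorBi O).flip.obj G) :=
  preservesColimitsOfSize_shrink.{0, u, 0, u} _

instance additive_tensorCx_obj (F : Cx O) : ((ModSite.tensorCx O).obj F).Additive where
  map_add {K L f g} := by
    ext n : 1
    apply mapBifunctor.hom_ext
    intro p q h
    erw [Preadditive.comp_add, ι_mapBifunctorMap, ι_mapBifunctorMap, ι_mapBifunctorMap]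
    simp [Functor.map_add]
    rfl

instance additive_tensorCx_flip (K : Cx O) : ((ModSite.tensorCx O).flip.obj K).Additive where
  map_add {F G f g} := by
    ext n : 1
    apply mapBifunctor.hom_ext
    intro p q h
    erw [Preadditive.comp_add, ι_mapBifunctorMap, ι_mapBifunctorMap, ι_mapBifunctorMap]
    simp [Functor.map_add]
    rfl

/-- `Tot(F ⊗ -)` preserves colimits. -/
theorem tensorCx_obj_preservesColimitsOfShape (F : Cx O) (K : Type*) [Category* K]
    [HasColimitsOfShape K (ModSite.Mod O)]
    [∀ G : ModSite.Mod O, PreservesColimitsOfShape K ((ModSite.tensorBi O).obj G)] :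
    PreservesColimitsOfShape K ((ModSite.tensorCx O).obj F) := by
  refine HomologicalComplex.preservesColimitsOfShape_of_eval _ (fun n => ⟨fun {D} => ⟨fun {c} hc => ⟨?_⟩⟩⟩)
  let hq : ∀ p q : ℤ, IsColimit (((ModSite.tensorBi O).obj (F.X p)).mapCocone
      ((HomologicalComplex.eval _ _ q).mapCocone c)) := fun p q =>
    isColimitOfPreserves _ (isColimitOfPreserves (HomologicalComplex.eval _ _ q) hc)
  exact
    { desc := fun s => mapBifunctorDesc fun p q h => (hq p q).desc
        { pt := s.pt
          ι :=
            { app := fun k => ιMapBifunctor F (D.obj k) (ModSite.tensorBi O) (.up ℤ) p q n h ≫ s.ι.app k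
              naturality := fun i j φ => by
                have := s.w φ
                dsimp at this ⊢
                rw [← this]
                erw [ι_mapBifunctorMap_assoc]
                simp
                exact (Category.comp_id _).symm } }
      fac := fun s k => by
        apply mapBifunctor.hom_ext
        intro p q h
        dsimp
        erw [ι_mapBifunctorMap_assoc, ι_mapBifunctorDesc]
        simp
        exact (hq p q).fac _ k
      uniq := fun s m hm => by
        apply mapBifunctor.hom_ext
        intro p q h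
        erw [ι_mapBifunctorDesc]
        refine (hq p q).hom_ext fun k => ?_
        rw [IsColimit.fac]
        dsimp
        rw [← hm k]
        erw [ι_mapBifunctorMap_assoc]
        simp
        rfl }

/-- `Tot(- ⊗ K)` preserves colimits. -/
theorem tensorCx_flip_preservesColimitsOfShape (K : Cx O) (I : Type*) [Category* I]
    [HasColimitsOfShape I (ModSite.Mod O)]
    [∀ G : ModSite.Mod O, PreservesColimitsOfShape I ((ModSite.tensorBi O).flip.obj G)] :
    PreservesColimitsOfShape I ((ModSite.tensorCx O).flip.obj K) := by
  refine HomologicalComplex.preservesColimitsOfShape_of_eval _ (fun n => ⟨fun {D} => ⟨fun {c} hc => ⟨?_⟩⟩⟩)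
  let hq : ∀ p q : ℤ, IsColimit (((ModSite.tensorBi O).flip.obj (K.X q)).mapCocone
      ((HomologicalComplex.eval _ _ p).mapCocone c)) := fun p q =>
    isColimitOfPreserves _ (isColimitOfPreserves (HomologicalComplex.eval _ _ p) hc)
  exact
    { desc := fun s => mapBifunctorDesc fun p q h => (hq p q).desc
        { pt := s.pt
          ι :=
            { app := fun k => ιMapBifunctor (D.obj k) K (ModSite.tensorBi O) (.up ℤ) p q n h ≫ s.ι.app k
              naturality := fun i j φ => by
                have := s.w φ
                dsimp at this ⊢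
                rw [← this]
                erw [ι_mapBifunctorMap_assoc]
                simp
                exact (Category.comp_id _).symm } }
      fac := fun s k => by
        apply mapBifunctor.hom_ext
        intro p q h
        dsimp
        erw [ι_mapBifunctorMap_assoc, ι_mapBifunctorDesc]
        simp
        exact (hq p q).fac _ k
      uniq := fun s m hm => by
        apply mapBifunctor.hom_ext
        intro p q h
        erw [ι_mapBifunctorDesc]
        refine (hq p q).hom_ext fun k => ?_
        rw [IsColimit.fac]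
        dsimp
        rw [← hm k]
        erw [ι_mapBifunctorMap_assoc]
        simp
        rfl }

instance (F : Cx O) : PreservesFiniteColimits ((ModSite.tensorCx O).obj F) :=
  ⟨fun K _ _ => tensorCx_obj_preservesColimitsOfShape F K⟩

instance (K : Cx O) : PreservesFiniteColimits ((ModSite.tensorCx O).flip.obj K) :=
  ⟨fun I _ _ => tensorCx_flip_preservesColimitsOfShape K I⟩

theorem mono_mapBifunctorMap {F G K L : Cx O} (φ : F ⟶ G) (ψ : K ⟶ L)
    (h : ∀ p q, Mono (((ModSite.tensorBi O).map (φ.f p)).app (K.X q) ≫
      ((ModSite.tensorBi O).obj (G.X p)).map (ψ.f q))) :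
    Mono (mapBifunctorMap φ ψ (ModSite.tensorBi O) (.up ℤ)) := by
  haveI : ∀ n : ℤ, Mono ((mapBifunctorMap φ ψ (ModSite.tensorBi O) (.up ℤ)).f n) := fun n => by
    let α : Discrete.functor (fun i : (ComplexShape.π (.up ℤ) (.up ℤ) (.up ℤ)) ⁻¹' {n} =>
          ((ModSite.tensorBi O).obj (F.X i.1.1)).obj (K.X i.1.2)) ⟶
        Discrete.functor (fun i : (ComplexShape.π (.up ℤ) (.up ℤ) (.up ℤ)) ⁻¹' {n} =>
          ((ModSite.tensorBi O).obj (G.X i.1.1)).obj (L.X i.1.2)) :=
      Discrete.natTrans fun i => ((ModSite.tensorBi O).map (φ.f i.as.1.1)).app (K.X i.as.1.2) ≫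
        ((ModSite.tensorBi O).obj (G.X i.as.1.1)).map (ψ.f i.as.1.2)
    haveI : ∀ i, Mono (α.app i) := fun i => h i.as.1.1 i.as.1.2
    haveI := NatTrans.mono_of_mono_app α
    haveI : PreservesFiniteLimits (colim : (Discrete ((ComplexShape.π (.up ℤ) (.up ℤ) (.up ℤ)) ⁻¹' {n}) ⥤
        ModSite.Mod O) ⥤ ModSite.Mod O) := HasExactColimitsOfShape.preservesFiniteLimits
    haveI := preservesMonomorphisms_of_preservesLimitsOfShape
      (colim : (Discrete ((ComplexShape.π (.up ℤ) (.up ℤ) (.up ℤ)) ⁻¹' {n}) ⥤
        ModSite.Mod O) ⥤ ModSite.Mod O)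
    exact colim.map_mono' α
      (GradedObject.isColimitCofanMapObj
        (((ModSite.tensorBi O).mapBifunctorHomologicalComplex _ _).obj F |>.obj K).toGradedObject _ n)
      (GradedObject.isColimitCofanMapObj
        (((ModSite.tensorBi O).mapBifunctorHomologicalComplex _ _).obj G |>.obj L).toGradedObject _ n)
      ((mapBifunctorMap φ ψ (ModSite.tensorBi O) (.up ℤ)).f n)
      (fun i => (ι_mapBifunctorMap φ ψ _ _ i.as.1.1 i.as.1.2 n i.as.2).trans (Category.assoc _ _ _).symm)
  exact HomologicalComplex.mono_of_mono_f _ this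

/-- If `F^p ⊗ S^q` are short exact then so is `Tot(F ⊗ S)`. -/
theorem shortExact_tot_obj (F : Cx O) {S : ShortComplex (Cx O)} (hS : S.ShortExact)
    (h : ∀ p q, Mono (((ModSite.tensorBi O).obj (F.X p)).map (S.f.f q))) :
    (S.map ((ModSite.tensorCx O).obj F)).ShortExact := by
  refine { exact := (exact_epi_map ((ModSite.tensorCx O).obj F) hS).1, mono_f := ?_,
           epi_g := (exact_epi_map ((ModSite.tensorCx O).obj F) hS).2 }
  exact mono_mapBifunctorMap (𝟙 F) S.f fun p q => by simpa using h p q

/-- If `S^p ⊗ K^q` are short exact then so is `Tot(S ⊗ K)`. -/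
theorem shortExact_tot_flip (K : Cx O) {S : ShortComplex (Cx O)} (hS : S.ShortExact)
    (h : ∀ p q, Mono (((ModSite.tensorBi O).map (S.f.f p)).app (K.X q))) :
    (S.map ((ModSite.tensorCx O).flip.obj K)).ShortExact := by
  refine { exact := (exact_epi_map ((ModSite.tensorCx O).flip.obj K) hS).1, mono_f := ?_,
           epi_g := (exact_epi_map ((ModSite.tensorCx O).flip.obj K) hS).2 }
  exact mono_mapBifunctorMap S.f (𝟙 K) fun p q => by simpa using h p q

end Groth.Agent.SiteBase.KFlat
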